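import Cfsg.Agent.OddHalf.MM.Sheet
import Cfsg.Agent.OddHalf.TR
import Cfsg.Agent.Transfer.ElemAbAut
import Cfsg.Agent.OddHalf.MM.Elem
import Cfsg.Agent.OddHalf.MM.Good
import Cfsg.Agent.GTwoFour.TransferTL

-- merged: Cfsg.Agent.OddHalf.MM.Frame
section

/-!
# ODD half, D8, `M22` and `M23`: node A of helper438's blueprint (helper812)

`theorem A`: `t` is not conjugate to `φ z`, and every `v ∈ V` (`W`) is `[b, t]` for some `b ∈ C(V)` (`C(W)`).
-/

set_option autoImplicit false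

namespace Cfsg.Agent.OddHalf.MM.Frame

open Subgroup

/-! ### The group `⟨t⟩ V` -/

section EE

variable {G : Type*} [Group G] {t : G} {V : Subgroup G}

/-- `⟨t⟩ V` -/
def EE (t : G) (V : Subgroup G) : Subgroup G := zpowers t ⊔ V

theorem mem_EE (tt : t * t = 1) (comm : ∀ v ∈ V, v * t = t * v) {x : G} :
    x ∈ EE t V ↔ ∃ v ∈ V, x = v ∨ x = t * v := by
  constructor
  · intro hx
    let D : Subgroup G :=
      { carrier := {x | ∃ v ∈ V, x = v ∨ x = t * v}
        one_mem' := ⟨1, V.one_mem, Or.inl rfl⟩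
        mul_mem' := by
          rintro x y ⟨v, hv, hx⟩ ⟨w, hw, hy⟩
          rcases hx with hx | hx <;> rcases hy with hy | hy <;> rw [hx, hy]
          · exact ⟨v * w, V.mul_mem hv hw, Or.inl rfl⟩
          · exact ⟨v * w, V.mul_mem hv hw, Or.inr (by rw [← mul_assoc, comm v hv, mul_assoc])⟩
          · exact ⟨v * w, V.mul_mem hv hw, Or.inr (by rw [mul_assoc])⟩
          · refine ⟨v * w, V.mul_mem hv hw, Or.inl ?_⟩
            calc t * v * (t * w) = t * (v * t) * w := by group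
              _ = t * t * (v * w) := by rw [comm v hv]; group
              _ = v * w := by rw [tt, one_mul]
        inv_mem' := by
          rintro x ⟨v, hv, hx⟩
          rcases hx with hx | hx <;> rw [hx]
          · exact ⟨v⁻¹, V.inv_mem hv, Or.inl rfl⟩
          · refine ⟨v⁻¹, V.inv_mem hv, Or.inr ?_⟩
            have ht : t⁻¹ = t := inv_eq_of_mul_eq_one_left tt
            rw [mul_inv_rev, ht, comm _ (V.inv_mem hv)] }
    have h1 : EE t V ≤ D := by
      apply sup_le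
      · rw [zpowers_le]
        exact ⟨1, V.one_mem, Or.inr (mul_one t).symm⟩
      · exact fun v hv => ⟨v, hv, Or.inl rfl⟩
    exact h1 hx
  · rintro ⟨v, hv, rfl | rfl⟩
    · exact (le_sup_right : V ≤ EE t V) hv
    · exact (EE t V).mul_mem ((le_sup_left : zpowers t ≤ EE t V) (mem_zpowers t))
        ((le_sup_right : V ≤ EE t V) hv)

theorem t_mem : t ∈ EE t V := (le_sup_left : zpowers t ≤ EE t V) (mem_zpowers t)

theorem le_EE : V ≤ EE t V := le_sup_right

theorem el_comm (el : El V) {x y : G} (hx : x ∈ V) (hy : y ∈ V) : x * y = y * x := by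
  have h1 : (x * y)⁻¹ = x * y := inv_eq_of_mul_eq_one_left (el _ (V.mul_mem hx hy))
  have h2 : x⁻¹ = x := inv_eq_of_mul_eq_one_left (el _ hx)
  have h3 : y⁻¹ = y := inv_eq_of_mul_eq_one_left (el _ hy)
  rw [mul_inv_rev, h2, h3] at h1
  exact h1.symm

theorem card_EE [Finite G] (tt : t * t = 1) (comm : ∀ v ∈ V, v * t = t * v) (tV : t ∉ V) :
    Nat.card (EE t V) = 2 * Nat.card V := by
  have hm : ∀ x : Bool × V, (if x.1 then t * (x.2 : G) else (x.2 : G)) ∈ EE t V := by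
    rintro ⟨b, v, hv⟩
    rw [mem_EE tt comm]
    cases b
    · exact ⟨v, hv, Or.inl (by simp)⟩
    · exact ⟨v, hv, Or.inr (by simp)⟩
  let f : Bool × V → EE t V := fun x => ⟨if x.1 then t * (x.2 : G) else (x.2 : G), hm x⟩
  have hf : Function.Bijective f := by
    constructor
    · rintro ⟨b, v, hv⟩ ⟨b', w, hw⟩ h
      have h1 := congrArg Subtype.val h
      cases b <;> cases b'
      · have h2 : v = w := by simpa [f] using h1
        subst h2; rfl
      · exfalso
        have h2 : v = t * w := by simpa [f] using h1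
        apply tV
        have : t = v * w⁻¹ := by rw [h2]; group
        rw [this]
        exact V.mul_mem hv (V.inv_mem hw)
      · exfalso
        have h2 : t * v = w := by simpa [f] using h1
        apply tV
        have : t = w * v⁻¹ := by rw [← h2]; group
        rw [this]
        exact V.mul_mem hw (V.inv_mem hv)
      · have h2 : v = w := by simpa [f] using h1
        subst h2; rfl
    · rintro ⟨x, hx⟩
      obtain ⟨v, hv, h | h⟩ := (mem_EE tt comm).1 hx
      · exact ⟨⟨false, v, hv⟩, Subtype.ext (by simp [f, h])⟩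
      · exact ⟨⟨true, v, hv⟩, Subtype.ext (by simp [f, h])⟩
  rw [← Nat.card_congr (Equiv.ofBijective f hf), Nat.card_prod]
  congr 1
  simp

/-- **the counting argument** -/
theorem exists_beta [Finite G] {T : Subgroup G} (tt : t * t = 1) (comm : ∀ v ∈ V, v * t = t * v)
    (tV : t ∉ V) (el : El V) (card : Nat.card V = 16)
    (cent : ∀ g : G, g * t = t * g → Cen g V → ∃ v ∈ V, g = v ∨ g = t * v)
    (nc : ∀ g : G, g * t * g⁻¹ ∉ V)
    (tr : ∀ v ∈ V, v ≠ 1 → ∀ w ∈ V, w ≠ 1 → ∃ k : G, Nrm k V ∧ k * t = t * k ∧ k * v * k⁻¹ = w)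
    (TN : ∀ x ∈ T, Nrm x V) (Tt : ∀ x ∈ T, x * t = t * x) (hT : 256 ∣ Nat.card T)
    {g0 : G} (hg0 : Nrm g0 (EE t V)) (hg0t : g0 * t * g0⁻¹ ≠ t) :
    ∀ v ∈ V, ∃ b : G, Cen b V ∧ b * t * b⁻¹ = t * v := by
  classical
  -- transport of a nontrivial value
  by_cases hex : ∃ b : G, Cen b V ∧ ∃ v ∈ V, v ≠ 1 ∧ b * t * b⁻¹ = t * v
  · obtain ⟨b, hb, v, hv, hv1, hbt⟩ := hex
    intro w hw
    by_cases hw1 : w = 1
    · refine ⟨1, fun x _ => by group, ?_⟩
      rw [hw1]; group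
    obtain ⟨k, hkV, hkt, hkv⟩ := tr v hv hv1 w hw hw1
    refine ⟨k * b * k⁻¹, ?_, ?_⟩
    · intro x hx
      have h1 : k⁻¹ * x * k ∈ V := by
        rw [← hkV]
        have : k * (k⁻¹ * x * k) * k⁻¹ = x := by group
        rw [this]; exact hx
      have h2 := hb _ h1
      calc k * b * k⁻¹ * x = k * (b * (k⁻¹ * x * k)) * k⁻¹ := by group
        _ = k * (k⁻¹ * x * k * b) * k⁻¹ := by rw [h2]
        _ = x * (k * b * k⁻¹) := by group
    · have h3 : k⁻¹ * t * k = t := by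
        rw [mul_assoc, ← hkt]; group
      calc k * b * k⁻¹ * t * (k * b * k⁻¹)⁻¹ = k * (b * (k⁻¹ * t * k) * b⁻¹) * k⁻¹ := by group
        _ = k * (t * v) * k⁻¹ := by rw [h3, hbt]
        _ = (k * t) * (v * k⁻¹) := by group
        _ = t * (k * v * k⁻¹) := by rw [hkt]; group
        _ = t * w := by rw [hkv]
  exfalso
  set N1 : Subgroup G := normalizer (EE t V : Set G) with hN1
  have hN1m : ∀ g, g ∈ N1 ↔ Nrm g (EE t V) := by
    intro g
    rw [hN1, mem_normalizer_iff]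
    exact ⟨fun h x => (h x).symm, fun h x => (h x).symm⟩
  have hconj : ∀ g ∈ N1, ∀ x ∈ EE t V, g * x * g⁻¹ ∈ EE t V := fun g hg x hx =>
    ((hN1m g).1 hg x).2 hx
  -- conjugates of `t` in `⟨t⟩V`
  have hct : ∀ g : G, g * t * g⁻¹ ∈ EE t V → ∃ v ∈ V, g * t * g⁻¹ = t * v := by
    intro g hg
    obtain ⟨v, hv, h | h⟩ := (mem_EE tt comm).1 hg
    · exact absurd (h ▸ hv) (nc g)
    · exact ⟨v, hv, h⟩
  obtain ⟨v0, hv0, hv0e⟩ := hct g0 ((hg0 t).2 t_mem)
  have hv01 : v0 ≠ 1 := by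
    rintro rfl
    rw [mul_one] at hv0e
    exact hg0t hv0e
  -- transitivity
  have hkE : ∀ k : G, Nrm k V → k * t = t * k → k ∈ N1 := by
    intro k hkV hkt
    rw [hN1m]
    have hktt : k * t * k⁻¹ = t := by rw [hkt]; group
    intro x
    rw [mem_EE tt comm, mem_EE tt comm]
    constructor
    · rintro ⟨v, hv, h | h⟩
      · refine ⟨x, (hkV x).1 (h ▸ hv), Or.inl rfl⟩
      · have h1 : k * (t * x) * k⁻¹ = v := by
          calc k * (t * x) * k⁻¹ = (k * t * k⁻¹) * (k * x * k⁻¹) := by group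
            _ = t * (t * v) := by rw [hktt, h]
            _ = v := by rw [← mul_assoc, tt, one_mul]
        refine ⟨t * x, (hkV _).1 (h1 ▸ hv), Or.inr ?_⟩
        rw [← mul_assoc, tt, one_mul]
    · rintro ⟨v, hv, rfl | rfl⟩
      · exact ⟨_, (hkV _).2 hv, Or.inl rfl⟩
      · refine ⟨_, (hkV v).2 hv, Or.inr ?_⟩
        calc k * (t * v) * k⁻¹ = (k * t * k⁻¹) * (k * v * k⁻¹) := by group
          _ = t * (k * v * k⁻¹) := by rw [hktt]
  have htrans : ∀ v ∈ V, ∃ h ∈ N1, h * t * h⁻¹ = t * v := by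
    intro v hv
    by_cases hv1 : v = 1
    · exact ⟨1, N1.one_mem, by rw [hv1]; group⟩
    obtain ⟨k, hkV, hkt, hkv⟩ := tr v0 hv0 hv01 v hv hv1
    refine ⟨k * g0, N1.mul_mem (hkE k hkV hkt) ((hN1m g0).2 hg0), ?_⟩
    calc k * g0 * t * (k * g0)⁻¹ = k * (g0 * t * g0⁻¹) * k⁻¹ := by group
      _ = k * t * (v0 * k⁻¹) := by rw [hv0e]; group
      _ = t * (k * v0 * k⁻¹) := by rw [hkt]; group
      _ = t * v := by rw [hkv]
  -- `N1` normalises `V`
  have hNV' : ∀ g ∈ N1, ∀ x ∈ V, g * x * g⁻¹ ∈ V := by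
    intro g hg x hx
    obtain ⟨h, hh, hhx⟩ := htrans x hx
    obtain ⟨v1, hv1, e1⟩ := hct g (hconj g hg t t_mem)
    have h2 : g * h * t * (g * h)⁻¹ ∈ EE t V := hconj _ (N1.mul_mem hg hh) t t_mem
    obtain ⟨v2, hv2, e2⟩ := hct _ h2
    have e3 : g * (t * x) * g⁻¹ = t * v2 := by
      rw [← hhx, ← e2]; group
    have e4 : g * x * g⁻¹ = v1⁻¹ * v2 := by
      calc g * x * g⁻¹ = (g * t * g⁻¹)⁻¹ * (g * (t * x) * g⁻¹) := by group
        _ = (t * v1)⁻¹ * (t * v2) := by rw [e1, e3]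
        _ = v1⁻¹ * v2 := by group
    rw [e4]
    exact V.mul_mem (V.inv_mem hv1) hv2
  have hNV : N1 ≤ normalizer (V : Set G) := by
    intro g hg
    rw [mem_normalizer_iff]
    intro x
    refine ⟨hNV' g hg x, fun hx => ?_⟩
    have h1 := hNV' g⁻¹ (N1.inv_mem hg) _ hx
    have h2 : g⁻¹ * (g * x * g⁻¹) * g⁻¹⁻¹ = x := by group
    rwa [h2] at h1
  -- the action on `V`
  set f : N1 →* MulAut V := V.normalizerMonoidHom.comp (inclusion hNV) with hf
  have hker : f.ker.map N1.subtype ≤ EE t V := by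
    rintro _ ⟨⟨g, hg⟩, hgk, rfl⟩
    have h1 : Cen g V := by
      intro x hx
      have h2 : f ⟨g, hg⟩ ⟨x, hx⟩ = ⟨x, hx⟩ := by
        rw [MonoidHom.mem_ker.1 hgk]; rfl
      have h3 : g * x * g⁻¹ = x := congrArg Subtype.val h2
      calc g * x = g * x * g⁻¹ * g := by group
        _ = x * g := by rw [h3]
    obtain ⟨v, hv, hgv⟩ := hct g (hconj g hg t t_mem)
    have hv1 : v = 1 := by
      by_contra hv1
      exact hex ⟨g, h1, v, hv, hv1, hgv⟩
    have hgt : g * t = t * g := by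
      rw [hv1, mul_one, mul_inv_eq_iff_eq_mul] at hgv
      exact hgv
    exact (mem_EE tt comm).2 (cent g hgt h1)
  have hkc : Nat.card f.ker ∣ 32 := by
    have h1 := Subgroup.card_dvd_of_le hker
    rw [card_EE tt comm tV, card] at h1
    have h2 : Nat.card (f.ker.map N1.subtype) = Nat.card f.ker :=
      (Nat.card_congr (f.ker.equivMapOfInjective _ N1.subtype_injective).toEquiv).symm
    rwa [h2] at h1
  have hrc : Nat.card f.range ∣ 20160 := by
    have h1 : Nat.card f.range ∣ Nat.card (MulAut V) := Subgroup.card_subgroup_dvd_card _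
    have h2 := Cfsg.Agent.Transfer.ElemAbAut.card_mulAut (T := V) 2 4
      (fun x y => Subtype.ext (el_comm el x.2 y.2))
      (fun x => Subtype.ext (by
        show (x : G) ^ 2 = 1
        rw [pow_two]; exact el _ x.2))
      (by rw [card]; norm_num)
    rw [h2] at h1
    have h3 : (∏ i : Fin 4, (2 ^ 4 - 2 ^ (i : ℕ))) = 20160 := by decide
    rwa [h3] at h1
  -- orbit and stabilizer
  have hcard : Nat.card N1 = Nat.card f.ker * Nat.card f.range := by
    rw [← index_ker]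
    exact (card_mul_index _).symm
  have h4096 : 4096 ∣ Nat.card N1 := by
    let act : MulAction N1 G := MulAction.compHom G ((MulAut.conj : G →* MulAut G).comp N1.subtype)
    have hsm : ∀ (g : N1) (x : G), g • x = (g : G) * x * (g : G)⁻¹ := fun g x => rfl
    have horb : MulAction.orbit N1 t = (fun v : G => t * v) '' (V : Set G) := by
      ext x
      constructor
      · rintro ⟨g, rfl⟩
        show (g : G) * t * (g : G)⁻¹ ∈ _
        obtain ⟨v, hv, e⟩ := hct (g : G) (hconj g g.2 t t_mem)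
        exact ⟨v, hv, e.symm⟩
      · rintro ⟨v, hv, rfl⟩
        obtain ⟨h, hh, e⟩ := htrans v hv
        exact ⟨⟨h, hh⟩, e⟩
    have h16 : (MulAction.orbit N1 t).ncard = 16 := by
      rw [horb, Set.ncard_image_of_injective _ (mul_right_injective t)]
      rw [← card]
      rfl
    have h5 := MulAction.index_stabilizer (G := N1) t
    rw [h16] at h5
    have hTN1 : T ≤ N1 := fun x hx => hkE x (TN x hx) (Tt x hx)
    have h6 : T.subgroupOf N1 ≤ MulAction.stabilizer N1 t := by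
      intro x hx
      rw [MulAction.mem_stabilizer_iff, hsm, Tt _ (mem_subgroupOf.1 hx)]
      group
    have h7 : 256 ∣ Nat.card (MulAction.stabilizer N1 t) := by
      have h8 := Subgroup.card_dvd_of_le h6
      rw [Nat.card_congr (subgroupOfEquivOfLe hTN1).toEquiv] at h8
      exact hT.trans h8
    rw [← (MulAction.stabilizer N1 t).card_mul_index, h5]
    obtain ⟨m, hm⟩ := h7
    exact ⟨m, by rw [hm]; ring⟩
  rw [hcard] at h4096
  have h9 : 4096 ∣ 32 * 20160 := h4096.trans (mul_dvd_mul hkc hrc)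
  norm_num at h9

end EE

/-! ### The sheet and the setting -/

variable {K : Type*} [Group K] {G : Type*} [Group G] {SK V W : Subgroup K} {z c : K} {t : G}
  {φ : K →* G}

theorem finite_K [Finite G] (s : Setting t φ) : Finite K := Finite.of_injective φ s.inj

theorem not_range (s : Setting t φ) {k : K} {x : G} (hx : x = t * φ k) : x ∉ φ.range := by
  rintro ⟨l, hl⟩
  apply s.tK (l * k⁻¹)
  rw [map_mul, map_inv, hl, hx]
  group

/-- `z` is central in `SK` -/
theorem z_cen [Finite K] (h : Sheet SK V W z c) : ∀ s ∈ SK, s * z = z * s := by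
  have hnt : Nontrivial SK :=
    ⟨⟨⟨z, h.VS h.zV⟩, 1, fun e => h.z1 (congrArg Subtype.val e)⟩⟩
  have : Fact (Nat.Prime 2) := ⟨Nat.prime_two⟩
  have hcn : Nontrivial (center SK) := h.two.center_nontrivial
  obtain ⟨y, hy⟩ := exists_ne (1 : center SK)
  have hyc : ∀ s ∈ SK, s * ((y : SK) : K) = ((y : SK) : K) * s := by
    intro s hs
    exact congrArg Subtype.val (mem_center_iff.1 y.2 ⟨s, hs⟩)
  rcases h.cen _ (y : SK).2 hyc with e | e
  · exact absurd (Subtype.ext (Subtype.ext e)) hy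
  · rw [← e]; exact hyc

/-- `VW` -/
theorem mem_VW (h : Sheet SK V W z c) {x : K} : x ∈ V ⊔ W ↔ ∃ v ∈ V, ∃ w ∈ W, x = v * w := by
  constructor
  · intro hx
    let D : Subgroup K :=
      { carrier := {x | ∃ v ∈ V, ∃ w ∈ W, x = v * w}
        one_mem' := ⟨1, V.one_mem, 1, W.one_mem, (mul_one _).symm⟩
        mul_mem' := by
          rintro x y ⟨v, hv, w, hw, rfl⟩ ⟨v', hv', w', hw', rfl⟩
          refine ⟨v * (w * v' * w⁻¹), V.mul_mem hv ((h.nV w (h.WS hw) v').2 hv'), w * w',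
            W.mul_mem hw hw', by group⟩
        inv_mem' := by
          rintro x ⟨v, hv, w, hw, rfl⟩
          refine ⟨w⁻¹ * v⁻¹ * w⁻¹⁻¹, (h.nV _ (SK.inv_mem (h.WS hw)) _).2 (V.inv_mem hv), w⁻¹,
            W.inv_mem hw, by group⟩ }
    have h1 : V ⊔ W ≤ D := sup_le (fun v hv => ⟨v, hv, 1, W.one_mem, (mul_one v).symm⟩)
      (fun w hw => ⟨1, V.one_mem, w, hw, (one_mul w).symm⟩)
    exact h1 hx
  · rintro ⟨v, hv, w, hw, rfl⟩
    exact mul_mem ((le_sup_left : V ≤ V ⊔ W) hv) ((le_sup_right : W ≤ V ⊔ W) hw)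

theorem card_mul_relIndex {A B : Subgroup K} (h : A ≤ B) :
    Nat.card A * A.relIndex B = Nat.card B := by
  rw [← relIndex_bot_left, ← relIndex_bot_left]
  exact relIndex_mul_relIndex _ _ _ bot_le h

theorem card_SK [Finite K] (h : Sheet SK V W z c) : 128 ∣ Nat.card SK := by
  have : Fact (Nat.Prime 2) := ⟨Nat.prime_two⟩
  have hle : V ⊔ W ≤ SK := sup_le h.VS h.WS
  -- `|VW| ≥ 64`
  have h1 : 4 ≤ V.relIndex (V ⊔ W) := by
    have h2 : V.relIndex W * 4 = 16 := by
      have h3 := card_mul_relIndex (A := V ⊓ W) (B := W) inf_le_right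
      rw [h.cardVW, h.cardW, inf_relIndex_right] at h3
      omega
    have hne : V.relIndex (V ⊔ W) ≠ 0 := index_ne_zero_of_finite
    have h4 : V.relIndex W ≤ V.relIndex (V ⊔ W) :=
      relIndex_le_of_le_right le_sup_right hne
    omega
  have h5 : 64 ≤ Nat.card (V ⊔ W : Subgroup K) := by
    have h6 := card_mul_relIndex (A := V) (B := V ⊔ W) le_sup_left
    rw [h.cardV] at h6
    omega
  have h7 : 2 ≤ (V ⊔ W).relIndex SK := by
    have h8 : (V ⊔ W).relIndex SK ≠ 1 := by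
      intro h9
      rw [relIndex_eq_one] at h9
      obtain ⟨v, hv, w, hw, e⟩ := (mem_VW h).1 (h9 h.cS)
      exact h.cN v hv w hw e
    have h10 : (V ⊔ W).relIndex SK ≠ 0 := index_ne_zero_of_finite
    omega
  have h11 : 128 ≤ Nat.card SK := by
    have h12 := card_mul_relIndex hle
    nlinarith
  obtain ⟨n, hn⟩ := IsPGroup.iff_card.1 h.two
  rw [hn] at h11 ⊢
  have h13 : 7 ≤ n := by
    by_contra h14
    have : 2 ^ n ≤ 2 ^ 6 := Nat.pow_le_pow_right (by norm_num) (by omega)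
    omega
  exact (show (128 : ℕ) = 2 ^ 7 by norm_num) ▸ pow_dvd_pow 2 h13

/-- `T = ⟨t⟩ φ(SK)` -/
def TT (t : G) (φ : K →* G) (SK : Subgroup K) : Subgroup G := EE t (SK.map φ)

theorem comm_map (s : Setting t φ) (X : Subgroup K) : ∀ v ∈ X.map φ, v * t = t * v := by
  rintro _ ⟨k, -, rfl⟩
  exact s.comm k

theorem t_notMem_map (s : Setting t φ) (X : Subgroup K) : t ∉ X.map φ := by
  rintro ⟨k, -, hk⟩
  exact s.tK k hk

theorem mem_map' (s : Setting t φ) {X : Subgroup K} {k : K} : φ k ∈ X.map φ ↔ k ∈ X := by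
  constructor
  · rintro ⟨l, hl, e⟩
    rwa [← s.inj e]
  · exact fun hk => ⟨k, hk, rfl⟩

theorem mem_EEφ (s : Setting t φ) {X : Subgroup K} {k : K} : φ k ∈ EE t (X.map φ) ↔ k ∈ X := by
  rw [mem_EE s.tt (comm_map s X)]
  constructor
  · rintro ⟨_, ⟨l, hl, rfl⟩, e | e⟩
    · rwa [s.inj e]
    · exact absurd ⟨k, rfl⟩ (not_range s e)
  · exact fun hk => ⟨φ k, ⟨k, hk, rfl⟩, Or.inl rfl⟩

theorem mem_TT (s : Setting t φ) {X : Subgroup K} {x : G} :
    x ∈ EE t (X.map φ) ↔ ∃ k ∈ X, x = φ k ∨ x = t * φ k := by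
  rw [mem_EE s.tt (comm_map s X)]
  constructor
  · rintro ⟨_, ⟨l, hl, rfl⟩, e⟩
    exact ⟨l, hl, e⟩
  · rintro ⟨l, hl, e⟩
    exact ⟨φ l, ⟨l, hl, rfl⟩, e⟩

theorem t_inv (s : Setting t φ) : t⁻¹ = t := inv_eq_of_mul_eq_one_left s.tt

theorem Nrm_map (s : Setting t φ) {X : Subgroup K} {k : K} (hk : Nrm k X) : Nrm (φ k) (X.map φ) := by
  intro x
  constructor
  · rintro ⟨l, hl, e⟩
    have e2 : x = φ (k⁻¹ * l * k) := by
      rw [map_mul, map_mul, map_inv, e]; group
    rw [e2, mem_map' s, ← hk]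
    have : k * (k⁻¹ * l * k) * k⁻¹ = l := by group
    rw [this]; exact hl
  · rintro ⟨l, hl, rfl⟩
    rw [← map_mul, ← map_inv, ← map_mul, mem_map' s, hk]
    exact hl

theorem Nrm_t (s : Setting t φ) (X : Subgroup K) : Nrm t (X.map φ) := by
  intro x
  have h1 : ∀ y ∈ X.map φ, t * y * t⁻¹ = y := by
    intro y hy
    rw [← comm_map s X y hy]; group
  constructor
  · intro hx
    have h2 := h1 _ hx
    rw [t_inv s] at h2 hx
    have h3 : t * (t * x * t) * t = x := by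
      calc t * (t * x * t) * t = (t * t) * x * (t * t) := by group
        _ = x := by rw [s.tt]; group
    rw [h3] at h2
    rw [h2]
    exact hx
  · intro hx
    rw [h1 x hx]; exact hx

theorem Nrm_mul {X : Subgroup G} {a b : G} (ha : Nrm a X) (hb : Nrm b X) : Nrm (a * b) X := by
  intro x
  have : a * b * x * (a * b)⁻¹ = a * (b * x * b⁻¹) * a⁻¹ := by group
  rw [this, ha, hb]

/-- an element which normalises `V` and centralises `t` normalises `⟨t⟩V` -/
theorem Nrm_EE {V : Subgroup G} (tt : t * t = 1) (comm : ∀ v ∈ V, v * t = t * v) {k : G}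
    (hkV : Nrm k V) (hkt : k * t = t * k) : Nrm k (EE t V) := by
  have hktt : k * t * k⁻¹ = t := by rw [hkt]; group
  intro x
  rw [mem_EE tt comm, mem_EE tt comm]
  constructor
  · rintro ⟨v, hv, h | h⟩
    · refine ⟨x, (hkV x).1 (h ▸ hv), Or.inl rfl⟩
    · have h1 : k * (t * x) * k⁻¹ = v := by
        calc k * (t * x) * k⁻¹ = (k * t * k⁻¹) * (k * x * k⁻¹) := by group
          _ = t * (t * v) := by rw [hktt, h]
          _ = v := by rw [← mul_assoc, tt, one_mul]
      refine ⟨t * x, (hkV _).1 (h1 ▸ hv), Or.inr ?_⟩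
      rw [← mul_assoc, tt, one_mul]
  · rintro ⟨v, hv, rfl | rfl⟩
    · exact ⟨_, (hkV _).2 hv, Or.inl rfl⟩
    · refine ⟨_, (hkV v).2 hv, Or.inr ?_⟩
      calc k * (t * v) * k⁻¹ = (k * t * k⁻¹) * (k * v * k⁻¹) := by group
        _ = t * (k * v * k⁻¹) := by rw [hktt]

/-- the frame -/
theorem frame [Finite G] (h : Sheet SK V W z c) (s : Setting t φ) :
    TR.Frame t (φ z) (TT t φ SK) := by
  have hK := finite_K s
  have : Fact (Nat.Prime 2) := ⟨Nat.prime_two⟩
  have hzc := z_cen h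
  have htT : t ∈ TT t φ SK := t_mem
  have hle : SK.map φ ≤ TT t φ SK := le_EE
  have hcom : ∀ x ∈ TT t φ SK, x * t = t * x := by
    intro x hx
    obtain ⟨k, hk, e | e⟩ := (mem_TT s).1 hx
    · rw [e]; exact s.comm k
    · rw [e, mul_assoc, s.comm k]
  refine
    { tt := s.tt
      zz := by rw [← map_mul, h.elV z h.zV, map_one]
      t1 := s.t1
      z1 := fun e => h.z1 (s.inj (e.trans (map_one φ).symm))
      ne := s.tK z
      pT := ?_
      tT := htT
      tc := hcom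
      zT := hle ⟨z, h.VS h.zV, rfl⟩
      zc := ?_
      max := ?_
      om := ?_
      iso := ?_ }
  · -- a 2-group
    have h1 : IsPGroup 2 (SK.map φ) := h.two.map φ
    have h2 : IsPGroup 2 (zpowers t) := TR.Frame.isPGroup_zpowers s.tt
    apply IsPGroup.to_sup_of_normal_left' h2 h1
    intro x hx
    rw [mem_normalizer_iff]
    have hxt := comm_map s SK x hx
    have key : ∀ y : G, y * t = t * y → ∀ a ∈ zpowers t, y * a * y⁻¹ = a := by
      intro y hy a ha
      obtain ⟨i, rfl⟩ := mem_zpowers_iff.1 ha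
      have h3 : Commute y t := hy
      have h4 : Commute y (t ^ i) := h3.zpow_right i
      rw [h4.eq]; group
    intro a
    constructor
    · intro ha
      rw [key x hxt a ha]; exact ha
    · intro ha
      have hxt' : x⁻¹ * t = t * x⁻¹ := by
        have h3 : Commute x t := hxt
        exact h3.inv_left.eq
      have h4 := key x⁻¹ hxt' _ ha
      have h5 : x⁻¹ * (x * a * x⁻¹) * x⁻¹⁻¹ = a := by group
      rw [h5] at h4
      rw [h4]; exact ha
  · intro x hx
    obtain ⟨k, hk, e | e⟩ := (mem_TT s).1 hx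
    · rw [e, ← map_mul, hzc k hk, map_mul]
    · rw [e, mul_assoc, ← map_mul, hzc k hk, map_mul, ← mul_assoc, ← s.comm z, mul_assoc]
  · intro P hP hTP hPt
    have h1 : P.comap φ = SK := by
      apply h.max
      · exact hP.comap_of_injective φ s.inj
      · intro k hk
        exact hTP (hle ⟨k, hk, rfl⟩)
    intro x hx
    obtain ⟨k, e | e⟩ := s.cent x (hPt x hx)
    · refine (mem_TT s).2 ⟨k, ?_, Or.inl e⟩
      rw [← h1]
      show φ k ∈ P
      rw [← e]; exact hx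
    · refine (mem_TT s).2 ⟨k, ?_, Or.inr e⟩
      rw [← h1]
      have h2 : φ k = t * x := by rw [e, ← mul_assoc, s.tt, one_mul]
      show φ k ∈ P
      rw [h2]
      exact P.mul_mem (hTP htT) hx
  · intro y hy hyc hyy
    obtain ⟨k, hk, e⟩ := (mem_TT s).1 hy
    have hkc : ∀ l ∈ SK, l * k = k * l := by
      intro l hl
      have h1 := hyc (φ l) (hle ⟨l, hl, rfl⟩)
      apply s.inj
      rw [map_mul, map_mul]
      rcases e with e | e
      · rwa [e] at h1
      · rw [e] at h1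
        have h2 : t * (φ l * φ k) = t * (φ k * φ l) := by
          calc t * (φ l * φ k) = (t * φ l) * φ k := by group
            _ = φ l * (t * φ k) := by rw [← s.comm l]; group
            _ = t * φ k * φ l := h1
            _ = t * (φ k * φ l) := by group
        exact mul_left_cancel h2
    rcases h.cen k hk hkc with rfl | rfl
    · rcases e with e | e
      · left; rw [e, map_one]
      · right; left; rw [e, map_one, mul_one]
    · rcases e with e | e
      · right; right; left; exact e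
      · right; right; right; exact e
  · -- `z` is isolated in `⟨t, z⟩`
    intro g ha hb
    set C : Subgroup K := centralizer ({z} : Set K) with hC
    have hz1 : φ z ≠ 1 := fun e => h.z1 (s.inj (e.trans (map_one φ).symm))
    have hzz : φ z * φ z = 1 := by rw [← map_mul, h.elV z h.zV, map_one]
    have hne : g * t * g⁻¹ ≠ g * φ z * g⁻¹ := fun e => s.tK z (TR.Frame.conj_inj e).symm
    -- conjugates of `φ k`, `k ∈ C`, centralise `t`
    have key : ∀ k ∈ C, ∃ l, g * φ k * g⁻¹ = φ l ∨ g * φ k * g⁻¹ = t * φ l := by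
      intro k hk
      have hkz : k * z = z * k := mem_centralizer_singleton_iff.1 hk
      apply s.cent
      have h1 : Commute (g * φ k * g⁻¹) (g * t * g⁻¹) := by
        have : Commute (φ k) t := s.comm k
        exact (this.map (MulAut.conj g).toMonoidHom :)
      have h2 : Commute (g * φ k * g⁻¹) (g * φ z * g⁻¹) := by
        have : Commute (φ k) (φ z) := by
          show φ k * φ z = φ z * φ k
          rw [← map_mul, hkz, map_mul]
        exact (this.map (MulAut.conj g).toMonoidHom :)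
      rcases ha with ha | ha | ha
      · rw [ha] at h1; exact h1
      · rcases hb with hb | hb | hb
        · rw [hb] at h2; exact h2
        · exact absurd (ha.trans hb.symm) hne
        · have h3 := h2.mul_right h1
          rw [ha, hb] at h3
          have e : t * φ z * φ z = t := by rw [mul_assoc, hzz, mul_one]
          rw [e] at h3
          exact h3
      · rcases hb with hb | hb | hb
        · rw [hb] at h2; exact h2
        · have h3 := h1.mul_right h2
          rw [ha, hb] at h3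
          have e : t * φ z * φ z = t := by rw [mul_assoc, hzz, mul_one]
          rw [e] at h3
          exact h3
        · exact absurd (ha.trans hb.symm) hne
    have h4 : ⁅C, C⁆ ≤ φ.range.comap ((MulAut.conj g).toMonoidHom.comp φ) := by
      rw [commutator_le]
      intro a haC b hbC
      rw [commutatorElement_def]
      show g * φ (a * b * a⁻¹ * b⁻¹) * g⁻¹ ∈ φ.range
      obtain ⟨k, hk⟩ := key a haC
      obtain ⟨l, hl⟩ := key b hbC
      have e1 : g * φ (a * b * a⁻¹ * b⁻¹) * g⁻¹ =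
          (g * φ a * g⁻¹) * (g * φ b * g⁻¹) * (g * φ a * g⁻¹)⁻¹ * (g * φ b * g⁻¹)⁻¹ := by
        rw [map_mul, map_mul, map_mul, map_inv, map_inv]
        group
      have e2 : (g * φ a * g⁻¹) * (g * φ b * g⁻¹) * (g * φ a * g⁻¹)⁻¹ * (g * φ b * g⁻¹)⁻¹ =
          φ k * φ l * (φ k)⁻¹ * (φ l)⁻¹ := by
        have ck : ∀ k, φ k * t = t * φ k := s.comm
        have ct : t⁻¹ = t := t_inv s
        rcases hk with hk | hk <;> rcases hl with hl | hl <;> rw [hk, hl]
        · calc φ k * (t * φ l) * (φ k)⁻¹ * (t * φ l)⁻¹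
              = (φ k * t) * φ l * (φ k)⁻¹ * (φ l)⁻¹ * t⁻¹ := by group
            _ = t * (φ k * φ l * (φ k)⁻¹ * (φ l)⁻¹) * t⁻¹ := by rw [ck k]; group
            _ = t * φ (k * l * k⁻¹ * l⁻¹) * t⁻¹ := by simp only [map_mul, map_inv]
            _ = φ (k * l * k⁻¹ * l⁻¹) := by rw [← ck]; group
            _ = φ k * φ l * (φ k)⁻¹ * (φ l)⁻¹ := by simp only [map_mul, map_inv]
        · calc t * φ k * φ l * (t * φ k)⁻¹ * (φ l)⁻¹
              = t * φ k * φ l * (φ k)⁻¹ * (t⁻¹ * (φ l)⁻¹) := by group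
            _ = t * φ k * φ l * (φ k)⁻¹ * ((φ l)⁻¹ * t⁻¹) := by
                rw [ct, ← map_inv φ l, ck]
            _ = t * φ (k * l * k⁻¹ * l⁻¹) * t⁻¹ := by simp only [map_mul, map_inv]; group
            _ = φ (k * l * k⁻¹ * l⁻¹) := by rw [← ck]; group
            _ = φ k * φ l * (φ k)⁻¹ * (φ l)⁻¹ := by simp only [map_mul, map_inv]
        · calc t * φ k * (t * φ l) * (t * φ k)⁻¹ * (t * φ l)⁻¹
              = t * (φ k * t) * φ l * (φ k)⁻¹ * (t⁻¹ * (φ l)⁻¹) * t⁻¹ := by group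
            _ = t * (t * φ k) * φ l * (φ k)⁻¹ * ((φ l)⁻¹ * t⁻¹) * t⁻¹ := by
                rw [ck k, ct, ← map_inv φ l, ck]
            _ = t * t * (φ k * φ l * (φ k)⁻¹ * (φ l)⁻¹) * (t⁻¹ * t⁻¹) := by group
            _ = φ k * φ l * (φ k)⁻¹ * (φ l)⁻¹ := by rw [ct, s.tt]; group
      rw [e1, e2]
      exact ⟨k * l * k⁻¹ * l⁻¹, by rw [map_mul, map_mul, map_mul, map_inv, map_inv]⟩
    obtain ⟨l, hl⟩ := h4 h.zD
    have hl' : φ l = g * φ z * g⁻¹ := hl
    rcases hb with hb | hb | hb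
    · exact absurd (hl'.trans hb) (s.tK l)
    · exact hb
    · exact absurd ⟨l, hl'⟩ (not_range s hb)

/-- the sign on `T` -/
theorem exists_mu (s : Setting t φ) (SK : Subgroup K) :
    ∃ mu : TT t φ SK →* ℤˣ, mu ⟨t, t_mem⟩ = -1 := by
  classical
  have hd : ∀ x : TT t φ SK, (x : G) ∈ φ.range ∨ ∃ k, (x : G) = t * φ k := by
    intro x
    obtain ⟨k, hk, e | e⟩ := (mem_TT s).1 x.2
    · exact Or.inl ⟨k, e.symm⟩
    · exact Or.inr ⟨k, e⟩
  refine ⟨MonoidHom.mk' (fun x => if (x : G) ∈ φ.range then 1 else -1) ?_, ?_⟩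
  · intro a b
    rcases hd a with ha | ⟨k, ha⟩ <;> rcases hd b with hb | ⟨l, hb⟩
    · rw [if_pos ha, if_pos hb, if_pos (by rw [Subgroup.coe_mul]; exact mul_mem ha hb)]
      rfl
    · obtain ⟨k, hk⟩ := ha
      have h1 : ((a * b : TT t φ SK) : G) = t * φ (k * l) := by
        rw [Subgroup.coe_mul, ← hk, hb, ← mul_assoc, s.comm k, map_mul, mul_assoc]
      have h2 : (a : G) ∈ φ.range := ⟨k, hk⟩
      rw [if_neg (not_range s h1), if_pos h2, if_neg (not_range s hb)]
      rfl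
    · obtain ⟨l, hl⟩ := hb
      have h1 : ((a * b : TT t φ SK) : G) = t * φ (k * l) := by
        rw [Subgroup.coe_mul, ← hl, ha, map_mul, mul_assoc]
      have h2 : (b : G) ∈ φ.range := ⟨l, hl⟩
      rw [if_neg (not_range s h1), if_neg (not_range s ha), if_pos h2]
      rfl
    · have h1 : ((a * b : TT t φ SK) : G) = φ (k * l) := by
        rw [Subgroup.coe_mul, ha, hb]
        calc t * φ k * (t * φ l) = t * (φ k * t) * φ l := by group
          _ = (t * t) * (φ k * φ l) := by rw [s.comm k]; group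
          _ = φ (k * l) := by rw [s.tt, one_mul, map_mul]
      have h2 : ((a * b : TT t φ SK) : G) ∈ φ.range := ⟨k * l, h1.symm⟩
      rw [if_pos h2, if_neg (not_range s ha), if_neg (not_range s hb)]
      rfl
  · show (if t ∈ φ.range then (1 : ℤˣ) else -1) = -1
    rw [if_neg]
    exact not_range s (k := 1) (by rw [map_one, mul_one])

/-- an element of `N(T)` moving `t` to `t z` permutes `⟨t⟩V`, `⟨t⟩W` -/
theorem perm [Finite G] (h : Sheet SK V W z c) (s : Setting t φ) {x : G}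
    (hx : x ∈ normalizer (TT t φ SK : Set G)) (hxt : x * t * x⁻¹ = t * φ z)
    (hxz : x * φ z * x⁻¹ = φ z) {X : Subgroup K} (hXS : X ≤ SK) (elX : El X)
    (cX : Nat.card X = 16) (zX : z ∈ X) :
    (EE t (X.map φ)).map (MulAut.conj x).toMonoidHom = EE t (V.map φ) ∨
      (EE t (X.map φ)).map (MulAut.conj x).toMonoidHom = EE t (W.map φ) := by
  have hK := finite_K s
  set E' := (EE t (X.map φ)).map (MulAut.conj x).toMonoidHom with hE'
  have hcmap : ∀ Y : Subgroup K, Nat.card (Y.map φ) = Nat.card Y := fun Y =>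
    (Nat.card_congr (Y.equivMapOfInjective φ s.inj).toEquiv).symm
  have hcE : ∀ Y : Subgroup K, Nat.card (EE t (Y.map φ)) = 2 * Nat.card Y := fun Y => by
    rw [card_EE s.tt (comm_map s Y) (t_notMem_map s Y), hcmap]
  have hcE' : Nat.card E' = 32 := by
    have h1 : Nat.card E' = Nat.card (EE t (X.map φ)) :=
      (Nat.card_congr ((EE t (X.map φ)).equivMapOfInjective _
        (MulAut.conj x).injective).toEquiv).symm
    rw [h1, hcE, cX]
  have hEel : ∀ y ∈ EE t (X.map φ), y * y = 1 := by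
    intro y hy
    obtain ⟨k, hk, e | e⟩ := (mem_TT s).1 hy
    · rw [e, ← map_mul, elX k hk, map_one]
    · rw [e]
      calc t * φ k * (t * φ k) = t * (φ k * t) * φ k := by group
        _ = (t * t) * (φ k * φ k) := by rw [s.comm k]; group
        _ = 1 := by rw [s.tt, one_mul, ← map_mul, elX k hk, map_one]
  have hE'el : ∀ y ∈ E', y * y = 1 := by
    rintro _ ⟨y, hy, rfl⟩
    show x * y * x⁻¹ * (x * y * x⁻¹) = 1
    calc x * y * x⁻¹ * (x * y * x⁻¹) = x * (y * y) * x⁻¹ := by group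
      _ = 1 := by rw [hEel y hy]; group
  have hE'T : E' ≤ TT t φ SK := by
    rintro _ ⟨y, hy, rfl⟩
    apply (mem_normalizer_iff.1 hx y).1
    obtain ⟨k, hk, e⟩ := (mem_TT s).1 hy
    exact (mem_TT s).2 ⟨k, hXS hk, e⟩
  have htE' : t ∈ E' := by
    refine ⟨t * φ z, ?_, ?_⟩
    · exact mul_mem t_mem (le_EE ⟨z, zX, rfl⟩)
    · show x * (t * φ z) * x⁻¹ = t
      calc x * (t * φ z) * x⁻¹ = (x * t * x⁻¹) * (x * φ z * x⁻¹) := by group
        _ = t * (φ z * φ z) := by rw [hxt, hxz]; group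
        _ = t := by rw [← map_mul, elX z zX, map_one, mul_one]
  have hEP : E' = EE t ((E'.comap φ).map φ) := by
    ext y
    rw [mem_TT s]
    constructor
    · intro hy
      obtain ⟨k, hk, e | e⟩ := (mem_TT s).1 (hE'T hy)
      · exact ⟨k, by show φ k ∈ E'; rw [← e]; exact hy, Or.inl e⟩
      · refine ⟨k, ?_, Or.inr e⟩
        show φ k ∈ E'
        have : φ k = t * y := by rw [e, ← mul_assoc, s.tt, one_mul]
        rw [this]
        exact mul_mem htE' hy
    · rintro ⟨k, hk, e | e⟩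
      · rw [e]; exact hk
      · rw [e]; exact mul_mem htE' hk
  have hcP : Nat.card (E'.comap φ) = 16 := by
    have h1 := hcE (E'.comap φ)
    rw [← hEP, hcE'] at h1
    omega
  have hPS : E'.comap φ ≤ SK := by
    intro k hk
    exact (mem_EEφ s).1 (hE'T hk)
  have hPel : El (E'.comap φ) := by
    intro k hk
    apply s.inj
    rw [map_mul, map_one]
    exact hE'el _ hk
  rcases h.el16 _ hPS hPel (by rw [hcP]) with e | e
  · left; rw [hEP, e]
  · right; rw [hEP, e]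

/-- `N(⟨t⟩X)` moves `t` -/
theorem moves (s : Setting t φ) {x : G} (hxt : x * t * x⁻¹ = t * φ z)
    (hz1 : z ≠ 1) {X Y : Subgroup K}
    (hX : (EE t (X.map φ)).map (MulAut.conj x).toMonoidHom = EE t (X.map φ) ∨
      (EE t (X.map φ)).map (MulAut.conj x).toMonoidHom = EE t (Y.map φ))
    (trY : ∃ k : K, Nrm k Y ∧ k * z * k⁻¹ ≠ z) :
    ∃ g : G, Nrm g (EE t (X.map φ)) ∧ g * t * g⁻¹ ≠ t := by
  have hmem : ∀ {A : Subgroup G} {y : G}, x * y * x⁻¹ ∈ A.map (MulAut.conj x).toMonoidHom ↔ y ∈ A := by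
    intro A y
    constructor
    · rintro ⟨a, ha, e⟩
      have e' : x * a * x⁻¹ = x * y * x⁻¹ := e
      rwa [← TR.Frame.conj_inj e']
    · exact fun hy => ⟨y, hy, rfl⟩
  rcases hX with e | e
  · refine ⟨x, fun y => ?_, ?_⟩
    · have := hmem (A := EE t (X.map φ)) (y := y)
      rwa [e] at this
    · rw [hxt]
      intro h1
      apply hz1
      apply s.inj
      rw [map_one]
      exact mul_eq_left.1 h1
  · obtain ⟨k, hkY, hkz⟩ := trY
    refine ⟨x⁻¹ * φ k * x, fun y => ?_, ?_⟩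
    · have h1 := hmem (A := EE t (X.map φ)) (y := x⁻¹ * φ k * x * y * (x⁻¹ * φ k * x)⁻¹)
      have h2 := hmem (A := EE t (X.map φ)) (y := y)
      rw [e] at h1 h2
      rw [← h1, ← h2]
      have h3 : x * (x⁻¹ * φ k * x * y * (x⁻¹ * φ k * x)⁻¹) * x⁻¹ =
          φ k * (x * y * x⁻¹) * (φ k)⁻¹ := by group
      rw [h3]
      exact Nrm_EE s.tt (comm_map s Y) (Nrm_map s hkY) (s.comm k) _
    · intro h1
      apply hkz
      apply s.inj
      have h2 : φ k * (x * t * x⁻¹) * (φ k)⁻¹ = x * t * x⁻¹ := by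
        calc φ k * (x * t * x⁻¹) * (φ k)⁻¹ =
            x * (x⁻¹ * φ k * x * t * (x⁻¹ * φ k * x)⁻¹) * x⁻¹ := by group
          _ = x * t * x⁻¹ := by rw [h1]
      rw [hxt] at h2
      have h3 : t * (φ k * φ z * (φ k)⁻¹) = t * φ z := by
        rw [← h2]
        calc t * (φ k * φ z * (φ k)⁻¹) = (t * φ k) * (φ z * (φ k)⁻¹) := by group
          _ = φ k * (t * φ z) * (φ k)⁻¹ := by rw [← s.comm k]; group
      rw [map_mul, map_mul, map_inv]
      exact mul_left_cancel h3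

/-- the conclusion for one of the two subgroups -/
theorem half [Finite G] (h : Sheet SK V W z c) (s : Setting t φ)
    (hnz : ∀ g, g * t * g⁻¹ ≠ φ z) {X : Subgroup K} (elX : El X)
    (cX : Nat.card X = 16) (nX : ∀ s ∈ SK, Nrm s X)
    (trX : ∀ v ∈ X, v ≠ 1 → ∃ k : K, Nrm k X ∧ k * z * k⁻¹ = v) (CX : ∀ k : K, Cen k X → k ∈ X)
    (hmv : ∃ g : G, Nrm g (EE t (X.map φ)) ∧ g * t * g⁻¹ ≠ t) :
    ∀ v ∈ X, ∃ b : G, Cen b (X.map φ) ∧ b * t * b⁻¹ = t * φ v := by
  have hK := finite_K s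
  obtain ⟨g0, hg0, hg0t⟩ := hmv
  have key := exists_beta (t := t) (V := X.map φ) (T := TT t φ SK) s.tt (comm_map s X)
    (t_notMem_map s X) ?_ ?_ ?_ ?_ ?_ ?_ ?_ ?_ hg0 hg0t
  · intro v hv
    exact key _ ⟨v, hv, rfl⟩
  · rintro _ ⟨k, hk, rfl⟩
    rw [← map_mul, elX k hk, map_one]
  · rw [← Nat.card_congr (X.equivMapOfInjective φ s.inj).toEquiv, cX]
  · intro g hgt hgX
    obtain ⟨k, hk⟩ := s.cent g hgt
    have h1 : k ∈ X := by
      apply CX
      intro x hx
      apply s.inj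
      rw [map_mul, map_mul]
      have h2 := hgX (φ x) ⟨x, hx, rfl⟩
      rcases hk with e | e
      · rwa [e] at h2
      · rw [e] at h2
        have h3 : t * (φ k * φ x) = t * (φ x * φ k) := by
          calc t * (φ k * φ x) = t * φ k * φ x := by group
            _ = φ x * (t * φ k) := h2
            _ = (φ x * t) * φ k := by group
            _ = t * (φ x * φ k) := by rw [s.comm x]; group
        exact mul_left_cancel h3
    exact ⟨φ k, ⟨k, h1, rfl⟩, hk⟩
  · rintro g ⟨k, hk, e⟩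
    by_cases hk1 : k = 1
    · rw [hk1, map_one] at e
      exact TR.Frame.conj_ne_one s.t1 e.symm
    obtain ⟨l, hl, hlz⟩ := trX k hk hk1
    apply hnz ((φ l)⁻¹ * g)
    calc (φ l)⁻¹ * g * t * ((φ l)⁻¹ * g)⁻¹ = (φ l)⁻¹ * (g * t * g⁻¹) * φ l := by group
      _ = (φ l)⁻¹ * φ (l * z * l⁻¹) * φ l := by rw [← e, hlz]
      _ = φ z := by rw [map_mul, map_mul, map_inv]; group
  · rintro _ ⟨a, ha, rfl⟩ ha1 _ ⟨b, hb, rfl⟩ hb1
    obtain ⟨k, hk, hkz⟩ := trX a ha (fun e => ha1 (by rw [e, map_one]))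
    obtain ⟨l, hl, hlz⟩ := trX b hb (fun e => hb1 (by rw [e, map_one]))
    have hk' : Nrm k⁻¹ X := by
      intro x
      rw [← hk]
      have : k * (k⁻¹ * x * k⁻¹⁻¹) * k⁻¹ = x := by group
      rw [this]
    refine ⟨φ (l * k⁻¹), Nrm_map s (Nrm_mul hl hk'), s.comm _, ?_⟩
    rw [← map_mul, ← map_inv, ← map_mul]
    congr 1
    rw [← hkz, ← hlz]
    group
  · intro x hx
    obtain ⟨k, hk, e | e⟩ := (mem_TT s).1 hx
    · rw [e]; exact Nrm_map s (nX k hk)
    · rw [e]; exact Nrm_mul (Nrm_t s X) (Nrm_map s (nX k hk))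
  · intro x hx
    obtain ⟨k, hk, e | e⟩ := (mem_TT s).1 hx
    · rw [e]; exact s.comm k
    · rw [e, mul_assoc, s.comm k]
  · have h1 := card_EE s.tt (comm_map s SK) (t_notMem_map s SK)
    rw [← Nat.card_congr (SK.equivMapOfInjective φ s.inj).toEquiv] at h1
    obtain ⟨m, hm⟩ := card_SK h
    show 256 ∣ Nat.card (EE t (SK.map φ))
    rw [h1, hm]
    exact ⟨m, by ring⟩

/-- **node A** -/
theorem A [Finite G] (hG : ∀ H : Subgroup G, H.index ≠ 2) (h : Sheet SK V W z c)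
    (s : Setting t φ) :
    (∀ g : G, g * t * g⁻¹ ≠ φ z) ∧
      (∀ v ∈ V, ∃ b : G, Cen b (V.map φ) ∧ b * t * b⁻¹ = t * φ v) ∧
      (∀ w ∈ W, ∃ b : G, Cen b (W.map φ) ∧ b * t * b⁻¹ = t * φ w) := by
  have hK := finite_K s
  obtain ⟨mu, hmu⟩ := exists_mu s SK
  obtain ⟨S, -, -, ⟨x, -, hxN, -, hxt, hxz⟩, hnz, -⟩ := (frame h s).main hG mu hmu
  -- `N(X)` moves `z`
  have hmv : ∀ X : Subgroup K, Nat.card X = 16 →
      (∀ v ∈ X, v ≠ 1 → ∃ k : K, Nrm k X ∧ k * z * k⁻¹ = v) →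
      ∃ k : K, Nrm k X ∧ k * z * k⁻¹ ≠ z := by
    intro X hc htr
    by_contra hno
    push Not at hno
    have h1 : X ≤ zpowers z := by
      intro v hv
      by_cases hv1 : v = 1
      · rw [hv1]; exact one_mem _
      obtain ⟨k, hk, e⟩ := htr v hv hv1
      rw [← e, hno k hk]
      exact mem_zpowers z
    have h2 := Subgroup.card_le_of_le h1
    rw [hc, Nat.card_zpowers] at h2
    have h3 : orderOf z ≤ 2 := orderOf_le_of_pow_eq_one (by norm_num) (by
      rw [pow_two]; exact h.elV z h.zV)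
    omega
  have hmvV := hmv V h.cardV h.trV
  have hmvW := hmv W h.cardW h.trW
  refine ⟨hnz, ?_, ?_⟩
  · exact half h s hnz h.elV h.cardV h.nV h.trV h.CV
      (moves s hxt h.z1 (perm h s hxN hxt hxz h.VS h.elV h.cardV h.zV) hmvW)
  · exact half h s hnz h.elW h.cardW h.nW h.trW h.CW
      (moves s hxt h.z1 (perm h s hxN hxt hxz h.WS h.elW h.cardW h.zW).symm hmvV)

end Cfsg.Agent.OddHalf.MM.Frame

end

-- merged: Cfsg.Agent.OddHalf.MM.Central
section

/-!
# ODD half, D8, `M22`, `M23`: node B (helper316)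

The element `y` of order 2 centralising `V` and `W` with `t ^ y = t z`, and `Half t V`, `Half t W`.
-/

set_option autoImplicit false

namespace Cfsg.Agent.OddHalf.MM

variable {G : Type*} [Group G]

/-- `Half` without existence and squares -/
structure Pre (t : G) (V : Subgroup G) : Prop where
  tt : t * t = 1
  t1 : t ≠ 1
  card : Nat.card V = 16
  el : El V
  comm : ∀ v ∈ V, v * t = t * v
  tV : t ∉ V
  cent : ∀ g : G, g * t = t * g → Cen g V → ∃ v ∈ V, g = v ∨ g = t * v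

namespace Pre

variable {t : G} {V : Subgroup G}

theorem cenT (h : Pre t V) : Cen t V := fun v hv => (h.comm v hv).symm

/-- (4) -/
theorem sq_mem (h : Pre t V) {b v : G} (c : Cen b V) (hv : v ∈ V) (e : b * t * b⁻¹ = t * v) :
    b * b ∈ V := by
  have e1 := beta_mul (t := t) c hv e e
  rw [h.el v hv, mul_one] at e1
  have e2 : b * b * t = t * (b * b) := by
    rw [mul_inv_eq_iff_eq_mul] at e1; exact e1
  rcases h.cent _ e2 (c.mul c) with ⟨w, hw, e3 | e3⟩
  · rw [e3]; exact hw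
  · exfalso
    -- `b` commutes with `t`
    have h1 : b * (t * w) = t * w * b := by rw [← e3]; group
    have h2 : b * t = t * b := by
      have h3 : b * t * w = t * b * w := by
        calc b * t * w = b * (t * w) := by group
          _ = t * (w * b) := by rw [h1]; group
          _ = t * b * w := by rw [← c w hw]; group
      exact mul_right_cancel h3
    rcases h.cent _ h2 c with ⟨w', hw', e4 | e4⟩
    · rw [e4, h.el w' hw'] at e3
      apply h.tV
      have : t = w⁻¹ := by rw [eq_inv_iff_mul_eq_one]; exact e3.symm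
      rw [this]; exact V.inv_mem hw
    · have h5 : t * w' * (t * w') = 1 := by
        calc t * w' * (t * w') = t * (w' * t) * w' := by group
          _ = (t * t) * (w' * w') := by rw [h.comm w' hw']; group
          _ = 1 := by rw [h.tt, h.el w' hw', one_mul]
      rw [e4, h5] at e3
      apply h.tV
      have : t = w⁻¹ := by rw [eq_inv_iff_mul_eq_one]; exact e3.symm
      rw [this]; exact V.inv_mem hw

/-- two elements of `B` with the same `β` -/
theorem coset (h : Pre t V) {b b' v : G} (c : Cen b V) (c' : Cen b' V) (hv : v ∈ V)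
    (e : b * t * b⁻¹ = t * v) (e' : b' * t * b'⁻¹ = t * v) :
    ∃ u ∈ V, b' = b * u ∨ b' = b * (t * u) := by
  have e1 := beta_mul (t := t) c.inv hv (beta_inv h.el c hv e) e'
  rw [h.el v hv, mul_one] at e1
  have e2 : b⁻¹ * b' * t = t * (b⁻¹ * b') := by
    rw [mul_inv_eq_iff_eq_mul] at e1; exact e1
  rcases h.cent _ e2 (c.inv.mul c') with ⟨u, hu, e3 | e3⟩
  · exact ⟨u, hu, Or.inl (by rw [← e3]; group)⟩
  · exact ⟨u, hu, Or.inr (by rw [← e3]; group)⟩

/-- squares in a coset -/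
theorem sq_coset (h : Pre t V) {b b' v : G} (c : Cen b V) (c' : Cen b' V) (hv : v ∈ V)
    (e : b * t * b⁻¹ = t * v) (e' : b' * t * b'⁻¹ = t * v) :
    b' * b' = b * b ∨ b' * b' = b * b * v := by
  obtain ⟨u, hu, h1 | h1⟩ := h.coset c c' hv e e'
  · left
    rw [h1]
    calc b * u * (b * u) = b * (u * b) * u := by group
      _ = b * b * (u * u) := by rw [← c u hu]; group
      _ = b * b := by rw [h.el u hu, mul_one]
  · right
    have h2 : b * t = t * v * b := by rw [← e]; group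
    have h3 : t * b * t = v * b := by
      calc t * b * t = t * (b * t) := by group
        _ = (t * t) * v * b := by rw [h2]; group
        _ = v * b := by rw [h.tt, one_mul]
    rw [h1]
    calc b * (t * u) * (b * (t * u)) = b * t * (u * b) * t * u := by group
      _ = b * t * (b * u) * t * u := by rw [c u hu]
      _ = b * t * b * (u * t) * u := by group
      _ = b * (t * b * t) * (u * u) := by rw [h.comm u hu]; group
      _ = b * (b * v) := by rw [h3, h.el u hu, mul_one, c v hv]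
      _ = b * b * v := by group

end Pre

section Map

variable {K : Type*} [Group K] {t : G} {φ : K →* G}

theorem Setting.cenMap (_s : Setting t φ) {E : Subgroup K} {k : K} (h : Cen k E) :
    Cen (φ k) (E.map φ) := by
  rintro _ ⟨x, hx, rfl⟩
  rw [← map_mul, ← map_mul, h x hx]

theorem Setting.pre (s : Setting t φ) {E : Subgroup K} (hc : Nat.card E = 16) (he : El E)
    (hC : ∀ k : K, Cen k E → k ∈ E) : Pre t (E.map φ) := by
  refine ⟨s.tt, s.t1, ?_, ?_, ?_, ?_, ?_⟩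
  · rw [← hc]
    exact (Nat.card_congr (E.equivMapOfInjective φ s.inj).toEquiv).symm
  · rintro _ ⟨x, hx, rfl⟩
    rw [← map_mul, he x hx, map_one]
  · rintro _ ⟨x, hx, rfl⟩
    exact s.comm x
  · rintro ⟨x, hx, e⟩
    exact s.tK x e
  · intro g hg hgc
    obtain ⟨k, e | e⟩ := s.cent g hg
    · refine ⟨φ k, ⟨k, hC k fun x hx => s.inj ?_, rfl⟩, Or.inl e⟩
      have := hgc (φ x) ⟨x, hx, rfl⟩
      rw [e] at this
      rw [map_mul, map_mul, this]
    · refine ⟨φ k, ⟨k, hC k fun x hx => s.inj ?_, rfl⟩, Or.inr e⟩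
      have := hgc (φ x) ⟨x, hx, rfl⟩
      rw [e, mul_assoc] at this
      have h2 : t * (φ k * φ x) = t * (φ x * φ k) := by
        rw [this]
        calc φ x * (t * φ k) = (φ x * t) * φ k := by group
          _ = t * (φ x * φ k) := by rw [s.comm x]; group
      rw [map_mul, map_mul]
      exact mul_left_cancel h2

/-- the elements of `K` normalising `E` -/
theorem Setting.conjCen (s : Setting t φ) {E : Subgroup K} {k : K} (hk : Nrm k E) {b : G}
    (c : Cen b (E.map φ)) : Cen (φ k * b * (φ k)⁻¹) (E.map φ) := by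
  rintro _ ⟨x, hx, rfl⟩
  have h1 : k⁻¹ * x * k ∈ E := by
    have := hk.inv x
    rw [inv_inv] at this
    exact this.2 hx
  have h2 := c (φ (k⁻¹ * x * k)) ⟨_, h1, rfl⟩
  simp only [map_mul, map_inv] at h2
  calc φ k * b * (φ k)⁻¹ * φ x = φ k * (b * ((φ k)⁻¹ * φ x * φ k)) * (φ k)⁻¹ := by group
    _ = φ k * ((φ k)⁻¹ * φ x * φ k * b) * (φ k)⁻¹ := by rw [h2]
    _ = φ x * (φ k * b * (φ k)⁻¹) := by group

theorem Setting.conjBeta (s : Setting t φ) {k v : K} {b : G} (e : b * t * b⁻¹ = t * φ v) :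
    (φ k * b * (φ k)⁻¹) * t * (φ k * b * (φ k)⁻¹)⁻¹ = t * φ (k * v * k⁻¹) := by
  have h1 := s.comm k
  have h2 : (φ k)⁻¹ * t * φ k = t := by rw [mul_assoc, ← h1]; group
  calc (φ k * b * (φ k)⁻¹) * t * (φ k * b * (φ k)⁻¹)⁻¹
      = φ k * (b * ((φ k)⁻¹ * t * φ k) * b⁻¹) * (φ k)⁻¹ := by group
    _ = (φ k * t) * φ v * (φ k)⁻¹ := by rw [h2, e]; group
    _ = t * φ (k * v * k⁻¹) := by rw [h1, map_mul, map_mul, map_inv]; group

/-- squares of the elements of `B` over all of `E` from those over `z` -/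
theorem Setting.half (s : Setting t φ) {E : Subgroup K} (hc : Nat.card E = 16) (he : El E)
    (hC : ∀ k : K, Cen k E → k ∈ E) {z : K} (hz : z ∈ E)
    (tr : ∀ v ∈ E, v ≠ 1 → ∃ k : K, Nrm k E ∧ k * z * k⁻¹ = v)
    (ex : ∀ v ∈ E, ∃ b : G, Cen b (E.map φ) ∧ b * t * b⁻¹ = t * φ v)
    {y : G} (hy : y * y = 1) (cy : Cen y (E.map φ)) (ey : y * t * y⁻¹ = t * φ z) :
    Half t (E.map φ) := by
  have P := s.pre hc he hC
  refine ⟨P.tt, P.t1, P.card, P.el, P.comm, P.tV, P.cent, ?_, ?_⟩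
  · rintro _ ⟨v, hv, rfl⟩
    exact ex v hv
  · rintro _ ⟨v, hv, rfl⟩ b cb eb
    by_cases h1 : v = 1
    · left
      rw [h1, map_one, mul_one] at eb
      have h2 : b * t = t * b := by rw [mul_inv_eq_iff_eq_mul] at eb; exact eb
      obtain ⟨w, hw, e | e⟩ := P.cent b h2 cb
      · rw [e]; exact P.el w hw
      · rw [e]
        calc t * w * (t * w) = t * (w * t) * w := by group
          _ = (t * t) * (w * w) := by rw [P.comm w hw]; group
          _ = 1 := by rw [P.tt, P.el w hw, one_mul]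
    · obtain ⟨k, hk, rfl⟩ := tr v hv h1
      have c0 := s.conjCen hk.inv cb
      have e0 := s.conjBeta (k := k⁻¹) eb
      have e1 : k⁻¹ * (k * z * k⁻¹) * k⁻¹⁻¹ = z := by group
      rw [e1] at e0
      have h2 := P.sq_coset cy c0 ⟨z, hz, rfl⟩ ey e0
      have h3 : b * b = φ k * ((φ k⁻¹ * b * (φ k⁻¹)⁻¹) * (φ k⁻¹ * b * (φ k⁻¹)⁻¹)) * (φ k)⁻¹ := by
        rw [map_inv]; group
      rw [h3]
      rcases h2 with h2 | h2
      · left; rw [h2, hy]; group
      · right; rw [h2, hy, one_mul, map_mul, map_mul, map_inv]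

end Map

section Main

variable {K : Type*} [Group K] {SK V W : Subgroup K} {z c : K} {t : G} {φ : K →* G}

/-- `z` is in the centre of `SK` -/
theorem Sheet.z_comm (h : Sheet SK V W z c) : ∀ s ∈ SK, s * z = z * s := by
  have : Fact (Nat.Prime 2) := ⟨Nat.prime_two⟩
  have hfin : Finite SK := by
    have hV : Finite V := Nat.finite_of_card_ne_zero (by rw [h.cardV]; norm_num)
    have hW : Finite W := Nat.finite_of_card_ne_zero (by rw [h.cardW]; norm_num)
    have : ∀ s : SK, ∃ p : V × W × Bool, (s : K) = (p.1 : K) * p.2.1 * (if p.2.2 then c else 1) := by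
      rintro ⟨s, hs⟩
      obtain ⟨v, hv, w, hw, e | e⟩ := h.gen s hs
      · exact ⟨(⟨v, hv⟩, ⟨w, hw⟩, false), by simp [e]⟩
      · exact ⟨(⟨v, hv⟩, ⟨w, hw⟩, true), by simp [e]⟩
    choose f hf using this
    exact Finite.of_injective f fun a b hab => Subtype.ext (by rw [hf a, hf b, hab])
  have hnt : Nontrivial SK := ⟨⟨z, h.VS h.zV⟩, 1, fun e => h.z1 (congrArg Subtype.val e)⟩
  have : Nontrivial (Subgroup.center SK) := h.two.center_nontrivial
  obtain ⟨y, hy⟩ := exists_ne (1 : Subgroup.center SK)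
  have hyc := Subgroup.mem_center_iff.1 y.2
  have h1 : ∀ s ∈ SK, s * ((y : SK) : K) = ((y : SK) : K) * s := fun s hs =>
    congrArg Subtype.val (hyc ⟨s, hs⟩)
  rcases h.cen _ (y : SK).2 h1 with h2 | h2
  · exact absurd (Subtype.ext (Subtype.ext h2)) hy
  · rwa [h2] at h1

/-- the conjugates of the elements of `SK` by an element of `B` over `z` -/
theorem Sheet.conjT (h : Sheet SK V W z c) (s : Setting t φ) {E : Subgroup K} (hE : E ≤ SK)
    (hn : ∀ s ∈ SK, Nrm s E) (P : Pre t (E.map φ)) (hz : z ∈ E) {b : G} (cb : Cen b (E.map φ))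
    (eb : b * t * b⁻¹ = t * φ z) (x : K) (hx : x ∈ SK) :
    (∃ y ∈ SK, b * φ x * b⁻¹ = φ y ∨ b * φ x * b⁻¹ = t * φ y) ∧
      ∃ y ∈ SK, b⁻¹ * φ x * b = φ y ∨ b⁻¹ * φ x * b = t * φ y := by
  have key : ∀ x ∈ SK, ∃ u ∈ E, φ x * b * (φ x)⁻¹ = b * φ u ∨ φ x * b * (φ x)⁻¹ = b * (t * φ u) := by
    intro x hx
    have h1 := s.conjCen (hn x hx) cb
    have h2 := s.conjBeta (k := x) eb
    rw [h.z_comm x hx, mul_inv_cancel_right] at h2
    obtain ⟨_, ⟨u, hu, rfl⟩, h3⟩ := P.coset cb h1 ⟨z, hz, rfl⟩ eb h2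
    exact ⟨u, hu, h3⟩
  constructor
  · -- with `x⁻¹`
    obtain ⟨u, hu, e | e⟩ := key x⁻¹ (SK.inv_mem hx)
    · refine ⟨x * u, SK.mul_mem hx (hE hu), Or.inl ?_⟩
      have h1 : b * φ x = φ x * (b * φ u) := by
        rw [← e, map_inv]; group
      rw [h1, cb (φ u) ⟨u, hu, rfl⟩, map_mul]; group
    · refine ⟨x * (z * u), SK.mul_mem hx (SK.mul_mem (hE hz) (hE hu)), Or.inr ?_⟩
      have h1 : b * φ x = φ x * (b * (t * φ u)) := by
        rw [← e, map_inv]; group
      have h2 : b * t = t * φ z * b := by rw [← eb]; group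
      calc b * φ x * b⁻¹ = φ x * (b * t) * φ u * b⁻¹ := by rw [h1]; group
        _ = φ x * t * φ z * (b * φ u) * b⁻¹ := by rw [h2]; group
        _ = φ x * t * φ z * φ u := by rw [cb (φ u) ⟨u, hu, rfl⟩]; group
        _ = t * φ (x * (z * u)) := by rw [s.comm x, map_mul, map_mul]; group
  · obtain ⟨u, hu, e | e⟩ := key x hx
    · refine ⟨u * x, SK.mul_mem (hE hu) hx, Or.inl ?_⟩
      have h1 : φ x * b = b * φ u * φ x := by rw [← e]; group
      rw [mul_assoc, h1, map_mul]; group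
    · refine ⟨u * x, SK.mul_mem (hE hu) hx, Or.inr ?_⟩
      have h1 : φ x * b = b * (t * φ u) * φ x := by rw [← e]; group
      rw [mul_assoc, h1, map_mul]; group

/-- **NODE B** -/
theorem central (h : Sheet SK V W z c) (s : Setting t φ)
    (exV : ∀ v ∈ V, ∃ b : G, Cen b (V.map φ) ∧ b * t * b⁻¹ = t * φ v)
    (exW : ∀ w ∈ W, ∃ b : G, Cen b (W.map φ) ∧ b * t * b⁻¹ = t * φ w) :
    (∃ y, y * y = 1 ∧ Cen y (V.map φ) ∧ Cen y (W.map φ) ∧ y * t * y⁻¹ = t * φ z) ∧
      Half t (V.map φ) ∧ Half t (W.map φ) := by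
  have PV := s.pre h.cardV h.elV h.CV
  have PW := s.pre h.cardW h.elW h.CW
  have hy : ∃ y, y * y = 1 ∧ Cen y (V.map φ) ∧ Cen y (W.map φ) ∧ y * t * y⁻¹ = t * φ z := by
    obtain ⟨b, cb, eb⟩ := exV z h.zV
    obtain ⟨b', cb', eb'⟩ := exW z h.zW
    have zV' : φ z ∈ V.map φ := ⟨z, h.zV, rfl⟩
    have zW' : φ z ∈ W.map φ := ⟨z, h.zW, rfl⟩
    -- `k = b⁻¹ b'` commutes with `t`
    have eb2 := beta_inv PV.el cb zV' eb
    have hkt : (b⁻¹ * b') * t = t * (b⁻¹ * b') := by
      have h1 : b' * t = t * φ z * b' := by rw [← eb']; group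
      have h2 : b⁻¹ * t = t * φ z * b⁻¹ := by rw [← eb2]; group
      calc (b⁻¹ * b') * t = b⁻¹ * (b' * t) := by group
        _ = (b⁻¹ * t) * φ z * b' := by rw [h1]; group
        _ = t * φ z * (b⁻¹ * φ z) * b' := by rw [h2]; group
        _ = t * (φ z * φ z) * b⁻¹ * b' := by rw [cb.inv _ zV']; group
        _ = t * (b⁻¹ * b') := by rw [PV.el _ zV']; group
    obtain ⟨k, hk⟩ := s.cent _ hkt
    -- conjugation by `k`
    have hT := h.conjT s h.VS h.nV PV h.zV cb eb
    have hT' := h.conjT s h.WS h.nW PW h.zW cb' eb'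
    have h1 : ∀ x ∈ SK, k * x * k⁻¹ ∈ SK := by
      intro x hx
      have h2 : φ (k * x * k⁻¹) = (b⁻¹ * b') * φ x * (b⁻¹ * b')⁻¹ := by
        rcases hk with hk | hk
        · rw [hk, map_mul, map_mul, map_inv]
        · rw [hk, map_mul, map_mul, map_inv]
          have h3 := s.comm (k * x * k⁻¹)
          rw [map_mul, map_mul, map_inv] at h3
          calc φ k * φ x * (φ k)⁻¹ = φ k * φ x * (φ k)⁻¹ * t * t⁻¹ := by group
            _ = t * φ k * φ x * (t * φ k)⁻¹ := by rw [h3]; group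
      obtain ⟨y, hy, e | e⟩ := (hT' x hx).1
      · obtain ⟨y', hy', e' | e'⟩ := (hT y hy).2
        · have h4 : φ (k * x * k⁻¹) = φ y' := by
            rw [h2, ← e', ← e]; group
          rw [s.inj h4]; exact hy'
        · exfalso
          apply s.tK (k * x * k⁻¹ * y'⁻¹)
          have h4 : φ (k * x * k⁻¹) = t * φ y' := by
            rw [h2, ← e', ← e]; group
          rw [map_mul, h4, map_inv]; group
      · have h5 : b⁻¹ * t * b = t * φ z := by rw [inv_inv] at eb2; exact eb2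
        obtain ⟨y', hy', e' | e'⟩ := (hT y hy).2
        · exfalso
          apply s.tK (k * x * k⁻¹ * (z * y')⁻¹)
          have h4 : φ (k * x * k⁻¹) = t * φ z * φ y' := by
            rw [h2]
            calc b⁻¹ * b' * φ x * (b⁻¹ * b')⁻¹ = b⁻¹ * (b' * φ x * b'⁻¹) * b := by group
              _ = (b⁻¹ * t * b) * (b⁻¹ * φ y * b) := by rw [e]; group
              _ = t * φ z * φ y' := by rw [h5, e']
          rw [map_mul, h4, map_inv, map_mul]; group
        · have h4 : φ (k * x * k⁻¹) = φ (z * y') := by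
            rw [h2]
            calc b⁻¹ * b' * φ x * (b⁻¹ * b')⁻¹ = b⁻¹ * (b' * φ x * b'⁻¹) * b := by group
              _ = (b⁻¹ * t * b) * (b⁻¹ * φ y * b) := by rw [e]; group
              _ = t * (φ z * t) * φ y' := by rw [h5, e']; group
              _ = (t * t) * (φ z * φ y') := by rw [s.comm z]; group
              _ = φ (z * y') := by rw [s.tt, one_mul, map_mul]
          rw [s.inj h4]
          exact SK.mul_mem (h.VS h.zV) hy'
    have h1' : ∀ x ∈ SK, k⁻¹ * x * k ∈ SK := by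
      intro x hx
      have h2 : φ (k⁻¹ * x * k) = (b⁻¹ * b')⁻¹ * φ x * (b⁻¹ * b') := by
        rcases hk with hk | hk
        · rw [hk, map_mul, map_mul, map_inv]
        · rw [hk, map_mul, map_mul, map_inv]
          have h3 := s.comm x
          have h4 : t⁻¹ * φ x * t = φ x := by rw [mul_assoc, h3]; group
          calc (φ k)⁻¹ * φ x * φ k = (φ k)⁻¹ * (t⁻¹ * φ x * t) * φ k := by rw [h4]
            _ = (t * φ k)⁻¹ * φ x * (t * φ k) := by group
      have eb2' := beta_inv PW.el cb' zW' eb'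
      have h5 : b'⁻¹ * t * b' = t * φ z := by rw [inv_inv] at eb2'; exact eb2'
      obtain ⟨y, hy, e | e⟩ := (hT x hx).1
      · obtain ⟨y', hy', e' | e'⟩ := (hT' y hy).2
        · have h4 : φ (k⁻¹ * x * k) = φ y' := by
            rw [h2, ← e', ← e]; group
          rw [s.inj h4]; exact hy'
        · exfalso
          apply s.tK (k⁻¹ * x * k * y'⁻¹)
          have h4 : φ (k⁻¹ * x * k) = t * φ y' := by
            rw [h2, ← e', ← e]; group
          rw [map_mul, h4, map_inv]; group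
      · obtain ⟨y', hy', e' | e'⟩ := (hT' y hy).2
        · exfalso
          apply s.tK (k⁻¹ * x * k * (z * y')⁻¹)
          have h4 : φ (k⁻¹ * x * k) = t * φ z * φ y' := by
            rw [h2]
            calc (b⁻¹ * b')⁻¹ * φ x * (b⁻¹ * b') = b'⁻¹ * (b * φ x * b⁻¹) * b' := by group
              _ = (b'⁻¹ * t * b') * (b'⁻¹ * φ y * b') := by rw [e]; group
              _ = t * φ z * φ y' := by rw [h5, e']
          rw [map_mul, h4, map_inv, map_mul]; group
        · have h4 : φ (k⁻¹ * x * k) = φ (z * y') := by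
            rw [h2]
            calc (b⁻¹ * b')⁻¹ * φ x * (b⁻¹ * b') = b'⁻¹ * (b * φ x * b⁻¹) * b' := by group
              _ = (b'⁻¹ * t * b') * (b'⁻¹ * φ y * b') := by rw [e]; group
              _ = t * (φ z * t) * φ y' := by rw [h5, e']; group
              _ = (t * t) * (φ z * φ y') := by rw [s.comm z]; group
              _ = φ (z * y') := by rw [s.tt, one_mul, map_mul]
          rw [s.inj h4]
          exact SK.mul_mem (h.VS h.zV) hy'
    have hkN : Nrm k SK := by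
      intro x
      refine ⟨fun hx => ?_, h1 x⟩
      have := h1' _ hx
      have e : k⁻¹ * (k * x * k⁻¹) * k = x := by group
      rwa [e] at this
    -- `k` centralises `V ⊓ W`
    have hkc : ∀ x ∈ V, x ∈ W → k * x = x * k := by
      intro x hx hx'
      apply s.inj
      have h2 := cb.inv (φ x) ⟨x, hx, rfl⟩
      have h3 := cb' (φ x) ⟨x, hx', rfl⟩
      have h4 : (b⁻¹ * b') * φ x = φ x * (b⁻¹ * b') := by
        rw [mul_assoc, h3, ← mul_assoc, h2, mul_assoc]
      rcases hk with hk | hk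
      · rw [hk] at h4
        rw [map_mul, map_mul, h4]
      · rw [hk, ← mul_assoc, s.comm x] at h4
        rw [map_mul, map_mul]
        have h5 : t * (φ k * φ x) = t * (φ x * φ k) := by
          rw [← mul_assoc, h4, mul_assoc]
        exact mul_left_cancel h5
    obtain ⟨v, hv, w, hw, hkvw⟩ := h.nS k hkN hkc
    -- the element `b₁`
    obtain ⟨b₁, c1V, c1W, e1⟩ : ∃ b₁ : G, Cen b₁ (V.map φ) ∧ Cen b₁ (W.map φ) ∧
        b₁ * t * b₁⁻¹ = t * φ z := by
      refine ⟨b' * (φ w)⁻¹, ?_, ?_, ?_⟩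
      · have hcv : Cen (φ v) (V.map φ) := PV.el.cen ⟨v, hv, rfl⟩
        rcases hk with hk | hk
        · have : b' * (φ w)⁻¹ = b * φ v := by
            have : b' = b * (φ v * φ w) := by rw [← map_mul, ← hkvw, ← hk]; group
            rw [this]; group
          rw [this]
          exact cb.mul hcv
        · have : b' * (φ w)⁻¹ = b * (t * φ v) := by
            have : b' = b * (t * (φ v * φ w)) := by rw [← map_mul, ← hkvw, ← hk]; group
            rw [this]; group
          rw [this]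
          exact cb.mul (PV.cenT.mul hcv)
      · have hcw : Cen (φ w) (W.map φ) := PW.el.cen ⟨w, hw, rfl⟩
        exact cb'.mul hcw.inv
      · have h2 := s.comm w
        have h3 : (φ w)⁻¹ * t * φ w = t := by rw [mul_assoc, ← h2]; group
        calc b' * (φ w)⁻¹ * t * (b' * (φ w)⁻¹)⁻¹ = b' * ((φ w)⁻¹ * t * φ w) * b'⁻¹ := by group
          _ = t * φ z := by rw [h3, eb']
    -- its square
    obtain ⟨r, hr, hr1⟩ := PV.sq_mem c1V zV' e1
    have hr2 : r = 1 ∨ r = z := by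
      refine h.sq r hr fun k' hk' hk'z => ?_
      have h2 := s.conjCen hk' c1V
      have h3 := s.conjBeta (k := k') e1
      rw [hk'z, mul_inv_cancel_right] at h3
      have h4 := PV.sq_coset c1V h2 zV' e1 h3
      have h5 : φ (k' * r * k'⁻¹) = (φ k' * b₁ * (φ k')⁻¹) * (φ k' * b₁ * (φ k')⁻¹) := by
        rw [map_mul, map_mul, map_inv, hr1]; group
      rcases h4 with h4 | h4
      · left
        apply s.inj
        rw [h5, h4, hr1]
      · right
        apply s.inj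
        rw [h5, h4, map_mul, hr1]
    rcases hr2 with hr2 | hr2
    · refine ⟨b₁, ?_, c1V, c1W, e1⟩
      rw [← hr1, hr2, map_one]
    · have h6 : b₁ * t = t * φ z * b₁ := by rw [← e1]; group
      refine ⟨b₁ * t, ?_, c1V.mul PV.cenT, c1W.mul PW.cenT, ?_⟩
      · calc b₁ * t * (b₁ * t) = (b₁ * t) * (t * φ z * b₁) := by rw [h6]
          _ = b₁ * (t * t) * φ z * b₁ := by group
          _ = (b₁ * φ z) * b₁ := by rw [s.tt]; group
          _ = φ z * (b₁ * b₁) := by rw [c1V _ zV']; group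
          _ = 1 := by rw [← hr1, hr2, PV.el _ zV']
      · calc b₁ * t * t * (b₁ * t)⁻¹ = b₁ * t * b₁⁻¹ := by group
          _ = t * φ z := e1
  obtain ⟨y, hyy, cV, cW, ey⟩ := hy
  exact ⟨⟨y, hyy, cV, cW, ey⟩, s.half h.cardV h.elV h.CV h.zV h.trV exV hyy cV ey,
    s.half h.cardW h.elW h.CW h.zW h.trW exW hyy cW ey⟩

end Main

end Cfsg.Agent.OddHalf.MM

end

-- merged: Cfsg.Agent.OddHalf.MM.Norm
section

/-!
# ODD half, D8, `M22`, `M23`: node E, `U_W` normalises `U_V` (helper681)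

Text: `blueprints/ODD-M22M23-helper438.md`, NODE E. The outputs of node D are hypotheses.
-/

set_option autoImplicit false

namespace Cfsg.Agent.OddHalf.MM.Norm

open Cfsg.Agent.OddHalf.MM

variable {G : Type*} [Group G]

/-- the output of node D for one of the two subgroups: `U = {b : InU t V b}` -/
structure Dat (t : G) (V U : Subgroup G) : Prop where
  tt : t * t = 1
  elV : El V
  comm : ∀ v ∈ V, v * t = t * v
  mem : ∀ b, b ∈ U ↔ InU t V b
  el : El U

/-- output (9), (9') of node D -/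
structure Uniq (t : G) (V U : Subgroup G) : Prop extends Dat t V U where
  card : Nat.card U = 256
  nine : ∀ R : Subgroup G, IsPGroup 2 R → t ∈ R → (∀ r ∈ R, Cen r V) → ∀ r ∈ R, InB t V r
  nine' : ∀ F : Subgroup G, El F → Nat.card F = 256 → (∀ f ∈ F, InB t V f) → F = U

theorem El.inv_eq {E : Subgroup G} (h : El E) {x : G} (hx : x ∈ E) : x⁻¹ = x :=
  inv_eq_of_mul_eq_one_left (h x hx)

theorem El.comm {E : Subgroup G} (h : El E) {x y : G} (hx : x ∈ E) (hy : y ∈ E) : x * y = y * x := by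
  have h1 := h (x * y) (mul_mem hx hy)
  have hx' := El.inv_eq h hx
  have hy' := El.inv_eq h hy
  have h2 : x * y = (x * y)⁻¹ := (inv_eq_of_mul_eq_one_left h1).symm
  rw [h2, mul_inv_rev, hx', hy']

namespace Dat

variable {t : G} {V U : Subgroup G}

theorem V_le (D : Dat t V U) {v : G} (hv : v ∈ V) : v ∈ U := by
  rw [D.mem]
  refine ⟨⟨fun x hx => El.comm D.elV hv hx, 1, one_mem _, ?_⟩, D.elV v hv, fun _ => hv⟩
  rw [D.comm v hv]; group

theorem cen (D : Dat t V U) {b : G} (hb : b ∈ U) : Cen b V := ((D.mem b).1 hb).1.1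

/-- everything that normalises `V` and centralises `t` normalises `U` -/
theorem nrm (D : Dat t V U) {g : G} (hg : Nrm g V) (ht : g * t = t * g) : Nrm g U := by
  have key : ∀ h : G, Nrm h V → h * t = t * h → ∀ x ∈ U, h * x * h⁻¹ ∈ U := by
    intro h hh hht x hx
    rw [D.mem] at hx ⊢
    obtain ⟨⟨hc, v, hv, hxt⟩, hxx, hcomm⟩ := hx
    have hht' : h⁻¹ * t = t * h⁻¹ := by
      rw [inv_mul_eq_iff_eq_mul, ← mul_assoc, hht]; group
    refine ⟨⟨?_, h * v * h⁻¹, (hh v).2 hv, ?_⟩, ?_, ?_⟩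
    · intro y hy
      have hy' : h⁻¹ * y * h ∈ V := by
        rw [← hh]
        have e : h * (h⁻¹ * y * h) * h⁻¹ = y := by group
        rwa [e]
      have h1 := hc _ hy'
      calc h * x * h⁻¹ * y = h * (x * (h⁻¹ * y * h)) * h⁻¹ := by group
        _ = h * (h⁻¹ * y * h * x) * h⁻¹ := by rw [h1]
        _ = y * (h * x * h⁻¹) := by group
    · calc h * x * h⁻¹ * t * (h * x * h⁻¹)⁻¹ = h * x * (h⁻¹ * t) * (h * x⁻¹ * h⁻¹) := by group
        _ = h * x * (t * h⁻¹) * (h * x⁻¹ * h⁻¹) := by rw [hht']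
        _ = h * (x * t * x⁻¹) * h⁻¹ := by group
        _ = h * (t * v) * h⁻¹ := by rw [hxt]
        _ = h * t * v * h⁻¹ := by group
        _ = t * h * v * h⁻¹ := by rw [hht]
        _ = t * (h * v * h⁻¹) := by group
    · calc h * x * h⁻¹ * (h * x * h⁻¹) = h * (x * x) * h⁻¹ := by group
        _ = 1 := by rw [hxx]; group
    · intro h1
      apply (hh x).2
      apply hcomm
      have h2 : h * (x * t) * h⁻¹ = h * (t * x) * h⁻¹ := by
        calc h * (x * t) * h⁻¹ = h * x * (t * h⁻¹) := by group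
          _ = h * x * (h⁻¹ * t) := by rw [hht']
          _ = h * x * h⁻¹ * t := by group
          _ = t * (h * x * h⁻¹) := h1
          _ = t * h * x * h⁻¹ := by group
          _ = h * t * x * h⁻¹ := by rw [hht]
          _ = h * (t * x) * h⁻¹ := by group
      exact mul_left_cancel (mul_right_cancel h2)
  have hg' : Nrm g⁻¹ V := by
    intro x
    rw [← hg]
    have e : g * (g⁻¹ * x * g⁻¹⁻¹) * g⁻¹ = x := by group
    rw [e]
  have ht' : g⁻¹ * t = t * g⁻¹ := by
    rw [inv_mul_eq_iff_eq_mul, ← mul_assoc, ht]; group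
  intro x
  constructor
  · intro hx
    have h1 := key g⁻¹ hg' ht' _ hx
    have e : g⁻¹ * (g * x * g⁻¹) * g⁻¹⁻¹ = x := by group
    rwa [e] at h1
  · exact key g hg ht x

end Dat

theorem Nrm.mul {g h : G} {V : Subgroup G} (hg : Nrm g V) (hh : Nrm h V) : Nrm (g * h) V := by
  intro x
  have e : g * (h * x * h⁻¹) * g⁻¹ = g * h * x * (g * h)⁻¹ := by group
  have h1 := (hg (h * x * h⁻¹)).trans (hh x)
  rwa [e] at h1

theorem Nrm.inv {g : G} {V : Subgroup G} (hg : Nrm g V) : Nrm g⁻¹ V := by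
  intro x
  rw [← hg]
  have e : g * (g⁻¹ * x * g⁻¹⁻¹) * g⁻¹ = x := by group
  rw [e]

theorem Nrm.of_mem {g : G} {V : Subgroup G} (hg : g ∈ V) : Nrm g V := by
  intro x
  constructor
  · intro h
    have h1 := mul_mem (mul_mem (inv_mem hg) h) hg
    have e : g⁻¹ * (g * x * g⁻¹) * g = x := by group
    rwa [e] at h1
  · intro h
    exact mul_mem (mul_mem hg h) (inv_mem hg)

theorem Nrm.mem_normalizer {g : G} {V : Subgroup G} (hg : Nrm g V) :
    g ∈ Subgroup.normalizer (V : Set G) := by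
  rw [Subgroup.mem_normalizer_iff]
  intro x
  exact (hg x).symm

/-- **NODE E**: `U_W` normalises `U_V`. -/
theorem norm [Finite G] {t : G} {V W UV UW : Subgroup G} (DV : Uniq t V UV) (DW : Dat t W UW)
    (nVW : ∀ v ∈ V, Nrm v W) (nWV : ∀ w ∈ W, Nrm w V)
    (cVW : ∀ v ∈ V, v ∉ W → ∀ w ∈ W, v * w = w * v → w ∈ V)
    (ex0 : ∀ x ∈ V, x ∈ W → ∃ y : G, Cen y V ∧ Cen y W ∧ y * y = 1 ∧ y * t * y⁻¹ = t * x) :
    ∀ b ∈ UW, Nrm b UV := by
  intro b hb
  have hbW := (DW.mem b).1 hb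
  obtain ⟨⟨hbc, w, hw, hbt⟩, hbb, -⟩ := hbW
  have hbi : b⁻¹ = b := El.inv_eq DW.el hb
  -- `y_x ∈ U_V ∩ U_W`
  have exU : ∀ x ∈ V, x ∈ W → ∃ y ∈ UV, y ∈ UW ∧ Cen y V ∧ y * t * y⁻¹ = t * x := by
    intro x hxV hxW
    by_cases hx1 : x = 1
    · refine ⟨1, one_mem _, one_mem _, fun v _ => by group, ?_⟩
      rw [hx1]; group
    · obtain ⟨y, h1, h2, h3, h4⟩ := ex0 x hxV hxW
      have hno : y * t ≠ t * y := by
        intro h5
        apply hx1
        have h6 : t * x = t := by rw [← h4, h5]; group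
        exact mul_eq_left.1 h6
      exact ⟨y, (DV.mem y).2 ⟨⟨h1, x, hxV, h4⟩, h3, fun h => absurd h hno⟩,
        (DW.mem y).2 ⟨⟨h2, x, hxW, h4⟩, h3, fun h => absurd h hno⟩, h1, h4⟩
  -- `V^b ≤ U_V`
  have hVb : ∀ v ∈ V, b * v * b⁻¹ ∈ UV := by
    intro v hv
    by_cases hvW : v ∈ W
    · have h1 : b * v = v * b := hbc v hvW
      have h2 : b * v * b⁻¹ = v := by rw [h1]; group
      rw [h2]; exact DV.toDat.V_le hv
    · have hvi : v⁻¹ = v := El.inv_eq DV.elV hv
      have hvt := DV.comm v hv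
      -- `d = [v, b]`
      have hvb : v * b * v⁻¹ ∈ UW := (DW.nrm (nVW v hv) hvt b).2 hb
      set d : G := v * b * v⁻¹ * b⁻¹ with hd
      have hdU : d ∈ UW := mul_mem hvb (inv_mem hb)
      -- `β(d) = [v, w]`
      have hvw : v * w * v⁻¹ ∈ W := (nVW v hv w).2 hw
      have hx_W : v * w * v⁻¹ * w⁻¹ ∈ W := mul_mem hvw (inv_mem hw)
      have hx_V : v * w * v⁻¹ * w⁻¹ ∈ V := by
        have h1 : w * v⁻¹ * w⁻¹ ∈ V := (nWV w hw _).2 (inv_mem hv)
        have h2 := mul_mem hv h1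
        have e : v * (w * v⁻¹ * w⁻¹) = v * w * v⁻¹ * w⁻¹ := by group
        rwa [e] at h2
      set x : G := v * w * v⁻¹ * w⁻¹ with hx
      have hwt := DW.comm w hw
      have hwi : w⁻¹ = w := El.inv_eq DW.elV hw
      have hti : t⁻¹ = t := inv_eq_of_mul_eq_one_left DV.tt
      have hvt' : v⁻¹ * t = t * v⁻¹ := by rw [hvi]; exact hvt
      -- b⁻¹ t b = t w
      have hbt' : b⁻¹ * t * b = t * w := by
        have h1 : b * t * b⁻¹ = b⁻¹ * t * b := by rw [hbi]
        rw [← h1]; exact hbt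
      have hdt : d * t * d⁻¹ = t * x := by
        have hbw : b * w = w * b := hbc w hw
        calc d * t * d⁻¹ = v * b * v⁻¹ * (b⁻¹ * t * b) * v * b⁻¹ * v⁻¹ := by rw [hd]; group
          _ = v * b * v⁻¹ * (t * w) * v * b⁻¹ * v⁻¹ := by rw [hbt']
          _ = v * b * (v⁻¹ * t) * w * v * b⁻¹ * v⁻¹ := by group
          _ = v * b * (t * v⁻¹) * w * v * b⁻¹ * v⁻¹ := by rw [hvt']
          _ = v * (b * t * b⁻¹) * (b * (v⁻¹ * w * v) * b⁻¹) * v⁻¹ := by group
          _ = v * (t * w) * (v⁻¹ * w * v) * v⁻¹ := by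
            have h1 : v⁻¹ * w * v ∈ W := by
              have := (nVW v hv w).2 hw
              rwa [hvi] at this ⊢
            have h2 : b * (v⁻¹ * w * v) * b⁻¹ = v⁻¹ * w * v := by rw [hbc _ h1]; group
            rw [h2, hbt]
          _ = v * t * (w * v⁻¹ * w) := by group
          _ = t * v * (w * v⁻¹ * w) := by rw [hvt]
          _ = t * x := by rw [hx, hwi]; group
      obtain ⟨y, hyV, hyW, hyc, hyt⟩ := exU x hx_V hx_W
      have hyi : y⁻¹ = y := El.inv_eq DV.el hyV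
      -- `w' = y d ∈ W`
      have hw'U : y⁻¹ * d ∈ UW := mul_mem (inv_mem hyW) hdU
      have hw'W : y⁻¹ * d ∈ W := by
        apply ((DW.mem _).1 hw'U).2.2
        have h1 : d * t = t * x * d := by rw [← hdt]; group
        have h3 : y⁻¹ * (t * x) = t * y⁻¹ := by
          rw [← hyt]; group
        calc y⁻¹ * d * t = y⁻¹ * (d * t) := by group
          _ = y⁻¹ * (t * x) * d := by rw [h1]; group
          _ = t * (y⁻¹ * d) := by rw [h3]; group
      -- `v` commutes with `d`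
      have hdi : d⁻¹ = d := El.inv_eq DW.el hdU
      have hvd : v * d = d * v := by
        have h1 : v * d * v⁻¹ = d⁻¹ := by
          rw [hd]
          have e1 : (v * b * v⁻¹ * b⁻¹)⁻¹ = b * v * b⁻¹ * v⁻¹ := by group
          rw [e1, hvi]
          have hvv := DV.elV v hv
          calc v * (v * b * v * b⁻¹) * v = (v * v) * b * v * b⁻¹ * v := by group
            _ = b * v * b⁻¹ * v := by rw [hvv]; group
        rw [hdi] at h1
        rwa [mul_inv_eq_iff_eq_mul] at h1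
      have hvy : v * y⁻¹ = y⁻¹ * v := by
        rw [hyi]; exact (hyc v hv).symm
      have hvw' : v * (y⁻¹ * d) = y⁻¹ * d * v := by
        calc v * (y⁻¹ * d) = v * y⁻¹ * d := (mul_assoc _ _ _).symm
          _ = y⁻¹ * v * d := by rw [hvy]
          _ = y⁻¹ * (v * d) := mul_assoc _ _ _
          _ = y⁻¹ * (d * v) := by rw [hvd]
          _ = y⁻¹ * d * v := (mul_assoc _ _ _).symm
      have hw'V : y⁻¹ * d ∈ V := cVW v hv hvW _ hw'W hvw'
      have e : b * v * b⁻¹ = y * (y⁻¹ * d) * v := by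
        have hvv := DV.elV v hv
        have h1 : d = d⁻¹ := hdi.symm
        have e1 : y * (y⁻¹ * d) * v = d * v := by group
        rw [e1, h1, hd]
        have e2 : (v * b * v⁻¹ * b⁻¹)⁻¹ * v = b * v * b⁻¹ := by group
        rw [e2]
      rw [e]
      exact mul_mem (mul_mem hyV (DV.toDat.V_le hw'V)) (DV.toDat.V_le hv)
  -- the 2-group `R = (U_V⟨tw⟩)^{b⁻¹}`
  have hwt := DW.comm w hw
  have htw2 : t * w * (t * w) = 1 := by
    rw [← hbt]
    calc b * t * b⁻¹ * (b * t * b⁻¹) = b * (t * t) * b⁻¹ := by group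
      _ = 1 := by rw [DV.tt]; group
  have htN : Nrm (t * w) UV := by
    apply Nrm.mul
    · apply DV.nrm _ rfl
      intro x
      constructor
      · intro hx
        have h1 : t * x * t⁻¹ = x := by
          have h2 := DV.comm _ hx
          have h3 : t * (t * x * t⁻¹) * t⁻¹ = t * x * t⁻¹ := by rw [← h2]; group
          exact mul_left_cancel (mul_right_cancel h3)
        rwa [h1] at hx
      · intro hx
        have h1 : t * x * t⁻¹ = x := by rw [← DV.comm x hx]; group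
        rwa [h1]
    · exact DV.nrm (nWV w hw) hwt
  set A : Subgroup G := UV ⊔ Subgroup.zpowers (t * w) with hA
  have pU : IsPGroup 2 UV := IsPGroup.of_card (n := 8) DV.card
  have pz : IsPGroup 2 (Subgroup.zpowers (t * w)) := by
    rintro ⟨x, hx⟩
    obtain ⟨n, rfl⟩ := Subgroup.mem_zpowers_iff.1 hx
    refine ⟨1, Subtype.ext ?_⟩
    show ((t * w) ^ n) ^ (2 ^ 1) = 1
    rw [pow_one, ← zpow_natCast, zpow_comm]
    have : (t * w) ^ ((2 : ℕ) : ℤ) = 1 := by
      rw [zpow_natCast, pow_two]; exact htw2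
    rw [this, one_zpow]
  have pA : IsPGroup 2 A := by
    rw [hA, sup_comm]
    apply IsPGroup.to_sup_of_normal_right' pz pU
    rw [Subgroup.zpowers_le]
    exact Nrm.mem_normalizer htN
  have hAc : ∀ a ∈ A, ∀ v ∈ V, a * (b * v * b⁻¹) = b * v * b⁻¹ * a := by
    intro a ha v hv
    have h1 : A ≤ Subgroup.centralizer ({b * v * b⁻¹} : Set G) := by
      rw [hA, sup_le_iff, Subgroup.zpowers_le]
      constructor
      · intro u hu
        rw [Subgroup.mem_centralizer_singleton_iff]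
        exact El.comm DV.el hu (hVb v hv)
      · rw [Subgroup.mem_centralizer_singleton_iff, ← hbt]
        calc b * t * b⁻¹ * (b * v * b⁻¹) = b * (t * v) * b⁻¹ := by group
          _ = b * (v * t) * b⁻¹ := by rw [DV.comm v hv]
          _ = b * v * b⁻¹ * (b * t * b⁻¹) := by group
    exact Subgroup.mem_centralizer_singleton_iff.1 (h1 ha)
  set R : Subgroup G := A.map (MulAut.conj b⁻¹).toMonoidHom with hR
  have hRB : ∀ r ∈ R, InB t V r := by
    apply DV.nine R (pA.map _)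
    · refine ⟨t * w, Subgroup.mem_sup_right (Subgroup.mem_zpowers _), ?_⟩
      show b⁻¹ * (t * w) * b⁻¹⁻¹ = t
      rw [← hbt]; group
    · rintro _ ⟨a, ha, rfl⟩ v hv
      show b⁻¹ * a * b⁻¹⁻¹ * v = v * (b⁻¹ * a * b⁻¹⁻¹)
      have h1 := hAc a ha v hv
      calc b⁻¹ * a * b⁻¹⁻¹ * v = b⁻¹ * (a * (b * v * b⁻¹)) * b := by group
        _ = b⁻¹ * (b * v * b⁻¹ * a) * b := by rw [h1]
        _ = v * (b⁻¹ * a * b⁻¹⁻¹) := by group
  have hF : UV.map (MulAut.conj b⁻¹).toMonoidHom = UV := by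
    apply DV.nine'
    · rintro _ ⟨u, hu, rfl⟩
      show b⁻¹ * u * b⁻¹⁻¹ * (b⁻¹ * u * b⁻¹⁻¹) = 1
      calc b⁻¹ * u * b⁻¹⁻¹ * (b⁻¹ * u * b⁻¹⁻¹) = b⁻¹ * (u * u) * b := by group
        _ = 1 := by rw [DV.el u hu]; group
    · rw [Nat.card_congr (UV.equivMapOfInjective _ (MulAut.conj b⁻¹).injective).symm.toEquiv]
      exact DV.card
    · rintro _ ⟨u, hu, rfl⟩
      exact hRB _ ⟨u, Subgroup.mem_sup_left hu, rfl⟩
  -- `b⁻¹` normalises `U_V`
  have h1 : Nrm b⁻¹ UV := by
    intro x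
    constructor
    · intro hx
      rw [← hF] at hx
      obtain ⟨u, hu, hux⟩ := hx
      have h2 : b⁻¹ * u * b⁻¹⁻¹ = b⁻¹ * x * b⁻¹⁻¹ := hux
      have h3 : u = x := mul_left_cancel (mul_right_cancel h2)
      rwa [← h3]
    · intro hx
      rw [← hF]
      exact ⟨x, hx, rfl⟩
  have h2 := Nrm.inv h1
  rwa [inv_inv] at h2

/-- a group of order 4 and exponent 2 -/
theorem four_cases {E : Subgroup G} (hE : Nat.card E = 4) (el : El E) {a b : G} (ha : a ∈ E) (hb : b ∈ E)
    (a1 : a ≠ 1) (b1 : b ≠ 1) (hab : a ≠ b) {x : G} (hx : x ∈ E) :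
    x = 1 ∨ x = a ∨ x = b ∨ x = a * b := by
  classical
  by_contra hcon
  push Not at hcon
  obtain ⟨x1, xa, xb, xab⟩ := hcon
  have hf : Finite E := Nat.finite_of_card_ne_zero (by rw [hE]; norm_num)
  have : Fintype E := Fintype.ofFinite _
  have hab1 : a * b ≠ 1 := fun h => hab (by
    rw [← El.inv_eq el hb]; exact eq_inv_of_mul_eq_one_left h)
  have haba : a * b ≠ a := fun h => b1 (mul_eq_left.1 h)
  have habb : a * b ≠ b := fun h => a1 (mul_eq_right.1 h)
  let S : Finset E := {⟨1, one_mem _⟩, ⟨a, ha⟩, ⟨b, hb⟩, ⟨a * b, mul_mem ha hb⟩, ⟨x, hx⟩}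
  have hS : S.card = 5 := by
    rw [Finset.card_insert_of_notMem, Finset.card_insert_of_notMem, Finset.card_insert_of_notMem,
      Finset.card_insert_of_notMem, Finset.card_singleton]
    all_goals simp only [Finset.mem_insert, Finset.mem_singleton, Subtype.mk.injEq, not_or]
    · exact fun h => xab h.symm
    · exact ⟨fun h => habb h.symm, fun h => xb h.symm⟩
    · exact ⟨hab, fun h => haba h.symm, fun h => xa h.symm⟩
    · exact ⟨fun h => a1 h.symm, fun h => b1 h.symm, fun h => hab1 h.symm, fun h => x1 h.symm⟩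
  have h1 := Finset.card_le_univ S
  rw [hS, ← Nat.card_eq_fintype_card, hE] at h1
  omega

/-- the elements `y_x` for `x ∈ V ∩ W` from `y = y_z` and `d` -/
theorem ex0_of {t z y d : G} {V W UV : Subgroup G} (DV : Dat t V UV) (card : Nat.card ↥(V ⊓ W) = 4)
    (zV : z ∈ V) (zW : z ∈ W) (z1 : z ≠ 1) (dV : Nrm d V) (dW : Nrm d W) (dt : d * t = t * d)
    (dz : d * z * d⁻¹ ≠ z) (yV : Cen y V) (yW : Cen y W) (yy : y * y = 1) (yt : y * t * y⁻¹ = t * z) :
    ∀ x ∈ V, x ∈ W → ∃ y : G, Cen y V ∧ Cen y W ∧ y * y = 1 ∧ y * t * y⁻¹ = t * x := by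
  have el : El (V ⊓ W) := fun x hx => DV.elV x hx.1
  have hconj : ∀ {E : Subgroup G}, Nrm d E → Cen y E → Cen (d * y * d⁻¹) E := by
    intro E hE hc x hx
    have hx' : d⁻¹ * x * d ∈ E := by
      rw [← hE]
      have e : d * (d⁻¹ * x * d) * d⁻¹ = x := by group
      rwa [e]
    calc d * y * d⁻¹ * x = d * (y * (d⁻¹ * x * d)) * d⁻¹ := by group
      _ = d * (d⁻¹ * x * d * y) * d⁻¹ := by rw [hc _ hx']
      _ = x * (d * y * d⁻¹) := by group
  have dt' : d⁻¹ * t = t * d⁻¹ := by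
    rw [inv_mul_eq_iff_eq_mul, ← mul_assoc, dt]; group
  have yt' : d * y * d⁻¹ * t * (d * y * d⁻¹)⁻¹ = t * (d * z * d⁻¹) := by
    calc d * y * d⁻¹ * t * (d * y * d⁻¹)⁻¹ = d * y * (d⁻¹ * t) * d * y⁻¹ * d⁻¹ := by group
      _ = d * y * (t * d⁻¹) * d * y⁻¹ * d⁻¹ := by rw [dt']
      _ = d * (y * t * y⁻¹) * d⁻¹ := by group
      _ = d * (t * z) * d⁻¹ := by rw [yt]
      _ = d * t * z * d⁻¹ := by group
      _ = t * d * z * d⁻¹ := by rw [dt]
      _ = t * (d * z * d⁻¹) := by group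
  have yy' : d * y * d⁻¹ * (d * y * d⁻¹) = 1 := by
    calc d * y * d⁻¹ * (d * y * d⁻¹) = d * (y * y) * d⁻¹ := by group
      _ = 1 := by rw [yy]; group
  have z'V : d * z * d⁻¹ ∈ V := (dV z).2 zV
  have z'W : d * z * d⁻¹ ∈ W := (dW z).2 zW
  have z'1 : d * z * d⁻¹ ≠ 1 := by
    intro h
    apply z1
    have h1 : d * z * d⁻¹ = d * 1 * d⁻¹ := by rw [h]; group
    exact mul_left_cancel (mul_right_cancel h1)
  have memU : ∀ {u x : G}, x ∈ V → x ≠ 1 → Cen u V → u * u = 1 → u * t * u⁻¹ = t * x → u ∈ UV := by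
    intro u x hx hx1 h1 h2 h3
    refine (DV.mem u).2 ⟨⟨h1, x, hx, h3⟩, h2, fun h => absurd ?_ hx1⟩
    have h6 : t * x = t := by rw [← h3, h]; group
    exact mul_eq_left.1 h6
  intro x hxV hxW
  rcases four_cases card el ⟨zV, zW⟩ ⟨z'V, z'W⟩ z1 z'1 (fun h => dz h.symm)
    (show x ∈ V ⊓ W from ⟨hxV, hxW⟩) with rfl | rfl | rfl | rfl
  · exact ⟨1, fun v _ => by group, fun v _ => by group, one_mul 1, by group⟩
  · exact ⟨y, yV, yW, yy, yt⟩
  · exact ⟨d * y * d⁻¹, hconj dV yV, hconj dW yW, yy', yt'⟩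
  · refine ⟨y * (d * y * d⁻¹), ?_, ?_, ?_, ?_⟩
    · intro v hv
      rw [mul_assoc, hconj dV yV v hv, ← mul_assoc, yV v hv, mul_assoc]
    · intro v hv
      rw [mul_assoc, hconj dW yW v hv, ← mul_assoc, yW v hv, mul_assoc]
    · exact DV.el _ (mul_mem (memU zV z1 yV yy yt) (memU z'V z'1 (hconj dV yV) yy' yt'))
    · have h1 : y * (d * z * d⁻¹) = d * z * d⁻¹ * y := yV _ z'V
      calc y * (d * y * d⁻¹) * t * (y * (d * y * d⁻¹))⁻¹
          = y * (d * y * d⁻¹ * t * (d * y * d⁻¹)⁻¹) * y⁻¹ := by group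
        _ = y * (t * (d * z * d⁻¹)) * y⁻¹ := by rw [yt']
        _ = y * t * y⁻¹ * (y * (d * z * d⁻¹) * y⁻¹) := by group
        _ = t * z * (d * z * d⁻¹ * y * y⁻¹) := by rw [yt, h1]
        _ = t * (z * (d * z * d⁻¹)) := by group

end Cfsg.Agent.OddHalf.MM.Norm

end

-- merged: Cfsg.Agent.OddHalf.MM.KillC
section

/-!
# ODD half, D8, `M22`, `M23`: node F, part (F_c) (helper438)

All involutions of the coset `c S0`, `S0 = U_V U_W`, are conjugate to `c`.
-/

set_option autoImplicit false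

namespace Cfsg.Agent.OddHalf.MM

variable {G : Type*} [Group G]

/-- an involution acting nontrivially on a quotient of order 4 of an elementary abelian group:
fixed points are commutators -/
theorem fix4 {E E0 : Subgroup G} {c : G} (hE : El E) (h0 : E0 ≤ E)
    (hcard : Nat.card E = 4 * Nat.card E0) (hpos : Nat.card E0 ≠ 0)
    (cc : c * c = 1) (nE : Nrm c E) (n0 : Nrm c E0)
    (hv : ∃ v ∈ E, c * v * c⁻¹ * v⁻¹ ∉ E0) {y : G} (hy : y ∈ E)
    (hy0 : c * y * c⁻¹ * y⁻¹ ∈ E0) : ∃ e ∈ E, y * (c * e * c⁻¹ * e⁻¹) ∈ E0 := by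
  classical
  obtain ⟨v, hvE, hv0⟩ := hv
  set d : G := c * v * c⁻¹ * v⁻¹ with hd
  have ci : c⁻¹ = c := inv_eq_of_mul_eq_one_right cc
  have hvc : c * v * c⁻¹ ∈ E := (nE v).mpr hvE
  have hdE : d ∈ E := E.mul_mem hvc (E.inv_mem hvE)
  -- `[c, d] = 1`
  have hdd : c * d * c⁻¹ = d := by
    have h1 : c * d * c⁻¹ = (c * c) * v * (c * c)⁻¹ * (c * v⁻¹ * c⁻¹) := by rw [hd]; group
    have h2 : (c * v * c⁻¹)⁻¹ = c * v * c⁻¹ := hE.inv hvc
    have h3 : c * v⁻¹ * c⁻¹ = c * v * c⁻¹ := by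
      rw [← h2]; group
    rw [h1, h3, cc, hd, hE.inv hvE]
    have := hE.comm hvE hvc
    simpa using this
  have hv1 : v ∉ E0 := by
    intro h
    exact hv0 (E0.mul_mem ((n0 v).mpr h) (E0.inv_mem h))
  have hvd : v * d ∉ E0 := by
    intro h
    apply hv0
    have h1 := E0.mul_mem ((n0 _).mpr h) (E0.inv_mem h)
    have h2 : c * (v * d) * c⁻¹ * (v * d)⁻¹ = (c * v * c⁻¹) * (c * d * c⁻¹) * d⁻¹ * v⁻¹ := by group
    rw [h2, hdd] at h1
    have h3 : c * v * c⁻¹ * d * d⁻¹ * v⁻¹ = d := by rw [hd]; group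
    rw [h3] at h1
    exact h1
  have hyv : y * v ∉ E0 := by
    intro h
    apply hv0
    have h1 := E0.mul_mem ((n0 _).mpr h) (E0.inv_mem h)
    -- c y v c⁻¹ (y v)⁻¹ = [c,y] [c,v]
    have e1 : c * (y * v) * c⁻¹ * (y * v)⁻¹ = (c * y * c⁻¹) * ((c * v * c⁻¹) * v⁻¹) * y⁻¹ := by
      group
    have e2 : (c * v * c⁻¹) * v⁻¹ * y⁻¹ = y⁻¹ * ((c * v * c⁻¹) * v⁻¹) :=
      hE.comm hdE (E.inv_mem hy)
    have e3 : c * (y * v) * c⁻¹ * (y * v)⁻¹ = (c * y * c⁻¹ * y⁻¹) * d := by
      rw [e1, mul_assoc (c * y * c⁻¹), e2, hd]; group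
    rw [e3] at h1
    have h4 := E0.mul_mem (E0.inv_mem hy0) h1
    have e5 : (c * y * c⁻¹ * y⁻¹)⁻¹ * ((c * y * c⁻¹ * y⁻¹) * d) = d := by group
    rw [e5] at h4
    exact h4
  have hyvd : y * (v * d) ∉ E0 := by
    intro h
    apply hv0
    have h1 := E0.mul_mem ((n0 _).mpr h) (E0.inv_mem h)
    have e1 : c * (y * (v * d)) * c⁻¹ * (y * (v * d))⁻¹ =
        (c * y * c⁻¹) * ((c * v * c⁻¹) * (c * d * c⁻¹) * d⁻¹ * v⁻¹) * y⁻¹ := by group
    have e2 : (c * v * c⁻¹) * (c * d * c⁻¹) * d⁻¹ * v⁻¹ = d := by rw [hdd, hd]; group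
    have e3 : d * y⁻¹ = y⁻¹ * d := hE.comm hdE (E.inv_mem hy)
    have e4 : c * (y * (v * d)) * c⁻¹ * (y * (v * d))⁻¹ = (c * y * c⁻¹ * y⁻¹) * d := by
      rw [e1, e2, mul_assoc (c * y * c⁻¹), e3]; group
    rw [e4] at h1
    have h4 := E0.mul_mem (E0.inv_mem hy0) h1
    have e5 : (c * y * c⁻¹ * y⁻¹)⁻¹ * ((c * y * c⁻¹ * y⁻¹) * d) = d := by group
    rw [e5] at h4
    exact h4
  by_cases hyE : y ∈ E0
  · exact ⟨1, E.one_mem, by simpa using hyE⟩
  by_cases hyd : y * d ∈ E0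
  · exact ⟨v, hvE, by rw [← hd]; exact hyd⟩
  exfalso
  -- five cosets in a quotient of order four
  have hidx : (E0.subgroupOf E).index = 4 := by
    have h1 := Subgroup.card_mul_index (E0.subgroupOf E)
    rw [Nat.card_congr (Subgroup.subgroupOfEquivOfLe h0).toEquiv, hcard] at h1
    have h2 : Nat.card E0 * (E0.subgroupOf E).index = Nat.card E0 * 4 := by rw [h1]; ring
    exact Nat.eq_of_mul_eq_mul_left (Nat.pos_of_ne_zero hpos) h2
  have hfinQ : Finite (E ⧸ E0.subgroupOf E) := Nat.finite_of_card_ne_zero (by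
    have : Nat.card (E ⧸ E0.subgroupOf E) = 4 := hidx
    rw [this]; norm_num)
  have := Fintype.ofFinite (E ⧸ E0.subgroupOf E)
  let q : E → E ⧸ E0.subgroupOf E := fun x => QuotientGroup.mk x
  have hq : ∀ a b : E, q a = q b → (a : G) * b ∈ E0 := by
    intro a b hab
    have h1 := QuotientGroup.eq.mp hab
    have h2 : ((a⁻¹ * b : E) : G) ∈ E0 := Subgroup.mem_subgroupOf.mp h1
    have h3 : ((a⁻¹ * b : E) : G) = (a : G)⁻¹ * b := rfl
    rw [h3, hE.inv a.2] at h2
    exact h2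
  let S : Finset (E ⧸ E0.subgroupOf E) :=
    {q 1, q ⟨v, hvE⟩, q ⟨d, hdE⟩, q ⟨v * d, E.mul_mem hvE hdE⟩, q ⟨y, hy⟩}
  have hS : S.card = 5 := by
    have n1 : q 1 ≠ q ⟨v, hvE⟩ := fun h => hv1 (by simpa using hq _ _ h)
    have n2 : q 1 ≠ q ⟨d, hdE⟩ := fun h => hv0 (by simpa using hq _ _ h)
    have n3 : q 1 ≠ q ⟨v * d, E.mul_mem hvE hdE⟩ := fun h => hvd (by simpa using hq _ _ h)
    have n4 : q 1 ≠ q ⟨y, hy⟩ := fun h => hyE (by simpa using hq _ _ h)
    have n5 : q ⟨v, hvE⟩ ≠ q ⟨d, hdE⟩ := fun h => hvd (hq _ _ h)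
    have n6 : q ⟨v, hvE⟩ ≠ q ⟨v * d, E.mul_mem hvE hdE⟩ := fun h => by
      have := hq _ _ h
      apply hv0
      have e : v * (v * d) = d := by rw [← mul_assoc, hE v hvE, one_mul]
      rw [← e]; exact this
    have n7 : q ⟨v, hvE⟩ ≠ q ⟨y, hy⟩ := fun h => by
      have := hq _ _ h
      apply hyv
      rw [hE.comm hy hvE]; exact this
    have n8 : q ⟨d, hdE⟩ ≠ q ⟨v * d, E.mul_mem hvE hdE⟩ := fun h => by
      have := hq _ _ h
      apply hv1
      have e : d * (v * d) = v := by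
        rw [hE.comm hvE hdE, ← mul_assoc, hE d hdE, one_mul]
      rw [← e]; exact this
    have n9 : q ⟨d, hdE⟩ ≠ q ⟨y, hy⟩ := fun h => by
      have := hq _ _ h
      apply hyd
      rw [hE.comm hy hdE]; exact this
    have n10 : q ⟨v * d, E.mul_mem hvE hdE⟩ ≠ q ⟨y, hy⟩ := fun h => by
      have := hq _ _ h
      apply hyvd
      rw [hE.comm hy (E.mul_mem hvE hdE)]; exact this
    show Finset.card {q 1, q ⟨v, hvE⟩, q ⟨d, hdE⟩, q ⟨v * d, E.mul_mem hvE hdE⟩, q ⟨y, hy⟩} = 5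
    rw [Finset.card_insert_of_notMem, Finset.card_insert_of_notMem,
      Finset.card_insert_of_notMem, Finset.card_insert_of_notMem, Finset.card_singleton]
    · simp [n10]
    · simp [n8, n9]
    · simp [n5, n6, n7]
    · simp [n1, n2, n3, n4]
  have h4 : Fintype.card (E ⧸ E0.subgroupOf E) = 4 := by
    rw [← Nat.card_eq_fintype_card]; exact hidx
  have h5 := Finset.card_le_univ S
  omega

/-- the conjugation step -/
theorem cj_step {c s a : G} (cc : c * c = 1)
    (h : c * (c * a⁻¹ * c * s * a) * (c * (c * a⁻¹ * c * s * a)) = 1 →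
      ∃ x : G, c * (c * a⁻¹ * c * s * a) = x * c * x⁻¹)
    (hs : c * s * (c * s) = 1) : ∃ x : G, c * s = x * c * x⁻¹ := by
  have e : c * (c * a⁻¹ * c * s * a) = a⁻¹ * (c * s) * a := by
    calc c * (c * a⁻¹ * c * s * a) = (c * c) * a⁻¹ * (c * s) * a := by group
      _ = a⁻¹ * (c * s) * a := by rw [cc]; group
  rw [e] at h
  obtain ⟨x, hx⟩ := h (by
    calc a⁻¹ * (c * s) * a * (a⁻¹ * (c * s) * a) = a⁻¹ * (c * s * (c * s)) * a := by group
      _ = 1 := by rw [hs]; group)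
  refine ⟨a * x, ?_⟩
  calc c * s = a * (a⁻¹ * (c * s) * a) * a⁻¹ := by group
    _ = a * (x * c * x⁻¹) * a⁻¹ := by rw [hx]
    _ = a * x * c * (a * x)⁻¹ := by group

/-- the data for node F, in terms of `G` -/
structure FData (t c : G) (V W UV UW : Subgroup G) : Prop where
  tt : t * t = 1
  cc : c * c = 1
  ct : c * t = t * c
  nV : Nrm c V
  nW : Nrm c W
  elV : El V
  elW : El W
  cardV : Nat.card V = 16
  cardW : Nat.card W = 16
  cardVW : Nat.card (V ⊓ W : Subgroup G) = 4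
  commV : ∀ v ∈ V, v * t = t * v
  commW : ∀ w ∈ W, w * t = t * w
  LV : Layer t V UV
  LW : Layer t W UW
  /-- node E -/
  nE : ∀ b ∈ UW, Nrm b UV
  /-- elements of `W` inside `U_V` -/
  WU : ∀ w ∈ W, w ∈ UV → w ∈ V
  /-- the elements `y_x` -/
  yx : ∀ x ∈ V, x ∈ W → ∃ y ∈ UV, y ∈ UW ∧ y * t * y⁻¹ = t * x
  c0 : ∃ x ∈ V, x ∈ W ∧ c * x ≠ x * c
  cV : ∃ v ∈ V, c * v * c⁻¹ * v⁻¹ ∉ W
  cW : ∃ w ∈ W, c * w * c⁻¹ * w⁻¹ ∉ V

namespace FData

variable {t c : G} {V W UV UW : Subgroup G}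

theorem ci (h : FData t c V W UV UW) : c⁻¹ = c := inv_eq_of_mul_eq_one_right h.cc

/-- `β(c b c) = c β(b) c` -/
theorem beta_c (h : FData t c V W UV UW) {b v : G} (e : b * t * b⁻¹ = t * v) :
    (c * b * c) * t * (c * b * c)⁻¹ = t * (c * v * c) := by
  have hc : c * t * c = t := by
    calc c * t * c = t * c * c := by rw [h.ct]
      _ = t * (c * c) := by group
      _ = t := by rw [h.cc, mul_one]
  calc (c * b * c) * t * (c * b * c)⁻¹ = c * (b * (c * t * c⁻¹) * b⁻¹) * c⁻¹ := by group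
    _ = c * (b * (c * t * c) * b⁻¹) * c := by rw [h.ci]
    _ = c * (t * v) * c := by rw [hc, e]
    _ = c * t * v * c := by group
    _ = t * c * v * c := by rw [h.ct]
    _ = t * (c * v * c) := by group

theorem cUV (h : FData t c V W UV UW) {b : G} (hb : b ∈ UV) : c * b * c ∈ UV := by
  have := (h.LV.nrm c h.nV h.ct b).mpr hb
  rw [h.ci] at this; exact this

theorem cUW (h : FData t c V W UV UW) {b : G} (hb : b ∈ UW) : c * b * c ∈ UW := by
  have := (h.LW.nrm c h.nW h.ct b).mpr hb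
  rw [h.ci] at this; exact this

theorem cVm (h : FData t c V W UV UW) {b : G} (hb : b ∈ V) : c * b * c ∈ V := by
  have := (h.nV b).mpr hb
  rw [h.ci] at this; exact this

theorem cWm (h : FData t c V W UV UW) {b : G} (hb : b ∈ W) : c * b * c ∈ W := by
  have := (h.nW b).mpr hb
  rw [h.ci] at this; exact this

/-- fixed points mod `W` in `V` -/
theorem fixV (h : FData t c V W UV UW) {y : G} (hy : y ∈ V) (hy0 : c * y * c * y ∈ W) :
    ∃ e ∈ V, y * (c * e * c * e) ∈ W ∧ y * (c * e * c * e) ∈ V := by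
  have := fix4 (E := V) (E0 := V ⊓ W) (c := c) h.elV inf_le_left
    (by rw [h.cardV, h.cardVW]) (by rw [h.cardVW]; norm_num) h.cc h.nV
    (fun x => and_congr (h.nV x) (h.nW x))
    (by
      obtain ⟨v, hv, h1⟩ := h.cV
      exact ⟨v, hv, fun h2 => h1 h2.2⟩) hy
    (by
      rw [h.ci, h.elV.inv hy]
      exact ⟨V.mul_mem (h.cVm hy) hy, hy0⟩)
  obtain ⟨e, he, h2⟩ := this
  rw [h.ci, h.elV.inv he] at h2
  exact ⟨e, he, h2.2, h2.1⟩

/-- fixed points mod `V` in `W` -/
theorem fixW (h : FData t c V W UV UW) {y : G} (hy : y ∈ W) (hy0 : c * y * c * y ∈ V) :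
    ∃ e ∈ W, y * (c * e * c * e) ∈ V ∧ y * (c * e * c * e) ∈ W := by
  have := fix4 (E := W) (E0 := V ⊓ W) (c := c) h.elW inf_le_right
    (by rw [h.cardW, h.cardVW]) (by rw [h.cardVW]; norm_num) h.cc h.nW
    (fun x => and_congr (h.nV x) (h.nW x))
    (by
      obtain ⟨v, hv, h1⟩ := h.cW
      exact ⟨v, hv, fun h2 => h1 h2.1⟩) hy
    (by
      rw [h.ci, h.elW.inv hy]
      exact ⟨hy0, W.mul_mem (h.cWm hy) hy⟩)
  obtain ⟨e, he, h2⟩ := this
  rw [h.ci, h.elW.inv he] at h2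
  exact ⟨e, he, h2.1, h2.2⟩

/-- fixed points in `V ∩ W` -/
theorem fix0 (h : FData t c V W UV UW) {y : G} (hy : y ∈ V) (hy' : y ∈ W)
    (hy0 : c * y * c * y = 1) :
    ∃ e ∈ V, e ∈ W ∧ y * (c * e * c * e) = 1 := by
  have hel : El (V ⊓ W : Subgroup G) := fun x hx => h.elV x hx.1
  have := fix4 (E := V ⊓ W) (E0 := ⊥) (c := c) hel bot_le
    (by rw [h.cardVW, Subgroup.card_bot]) (by rw [Subgroup.card_bot]; norm_num) h.cc
    (fun x => and_congr (h.nV x) (h.nW x))
    (fun x => by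
      rw [Subgroup.mem_bot, Subgroup.mem_bot]
      constructor
      · intro h1
        have : x = c⁻¹ * (c * x * c⁻¹) * c := by group
        rw [this, h1]; group
      · intro h1; rw [h1]; group)
    (by
      obtain ⟨v, hv, hv', h1⟩ := h.c0
      refine ⟨v, ⟨hv, hv'⟩, fun h2 => h1 ?_⟩
      rw [Subgroup.mem_bot] at h2
      have : c * v = (c * v * c⁻¹ * v⁻¹) * v * c := by group
      rw [this, h2, one_mul]) ⟨hy, hy'⟩
    (by
      rw [h.ci, h.elV.inv hy, Subgroup.mem_bot]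
      exact hy0)
  obtain ⟨e, he, h2⟩ := this
  rw [h.ci, h.elV.inv he.1, Subgroup.mem_bot] at h2
  exact ⟨e, he.1, he.2, h2⟩

/-- elements of `V` in `U_W` -/
theorem VU (h : FData t c V W UV UW) {v : G} (hv : v ∈ V) (hv' : v ∈ UW) : v ∈ W :=
  h.LW.cT v hv' (h.commV v hv)

/-- an element of `U_W` with `β` in `V ∩ W` is in `U0 W` -/
theorem low (h : FData t c V W UV UW) {b x : G} (hb : b ∈ UW) (e : b * t * b⁻¹ = t * x)
    (hx : x ∈ V) (hx' : x ∈ W) : ∃ y ∈ UV, y ∈ UW ∧ ∃ w ∈ W, b = y * w := by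
  obtain ⟨y, hy, hy', ey⟩ := h.yx x hx hx'
  refine ⟨y, hy, hy', y⁻¹ * b, ?_, by group⟩
  apply h.LW.cT _ (UW.mul_mem (UW.inv_mem hy') hb)
  have e1 := beta_mul (t := t) (V := W) ((h.LW.cV y hy').inv) hx'
    (beta_inv h.elW (h.LW.cV y hy') hx' ey) e
  rw [h.elW x hx', mul_one] at e1
  have := congrArg (· * (y⁻¹ * b)) e1
  simpa [mul_assoc] using this

theorem low' (h : FData t c V W UV UW) {b x : G} (hb : b ∈ UV) (e : b * t * b⁻¹ = t * x)
    (hx : x ∈ V) (hx' : x ∈ W) : ∃ y ∈ UV, y ∈ UW ∧ ∃ v ∈ V, b = y * v := by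
  obtain ⟨y, hy, hy', ey⟩ := h.yx x hx hx'
  refine ⟨y, hy, hy', y⁻¹ * b, ?_, by group⟩
  apply h.LV.cT _ (UV.mul_mem (UV.inv_mem hy) hb)
  have e1 := beta_mul (t := t) (V := V) ((h.LV.cV y hy).inv) hx
    (beta_inv h.elV (h.LV.cV y hy) hx ey) e
  rw [h.elV x hx, mul_one] at e1
  have := congrArg (· * (y⁻¹ * b)) e1
  simpa [mul_assoc] using this

/-- step 1 -/
theorem step1 (h : FData t c V W UV UW) {s : G} (hs : s ∈ V) (hs' : s ∈ W)
    (hcs : c * s * (c * s) = 1) : ∃ x : G, c * s = x * c * x⁻¹ := by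
  obtain ⟨e, he, he', h1⟩ := h.fix0 hs hs' (by rw [← hcs]; group)
  -- s = (c e c e)⁻¹ = e c e c
  refine ⟨e, ?_⟩
  have h2 : s = (c * e * c * e)⁻¹ := eq_inv_of_mul_eq_one_left h1
  rw [h2]
  have ci := h.ci
  have ei := h.elV.inv he
  -- c * (c e c e)⁻¹ = c * (e⁻¹ c⁻¹ e⁻¹ c⁻¹) ; commuting
  have h3 : (c * e * c) * e = e * (c * e * c) := h.elV.comm (h.cVm he) he
  have h4 : (c * e * c * e)⁻¹ = c * e * c * e := by
    apply inv_eq_of_mul_eq_one_right
    exact h.elV _ (V.mul_mem (h.cVm he) he)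
  rw [h4, ei]
  calc c * (c * e * c * e) = (c * c) * e * c * e := by group
    _ = e * c * e := by rw [h.cc, one_mul]

/-- step 2 -/
theorem step2 (h : FData t c V W UV UW) {s : G} (hs : s ∈ UV) (hs' : s ∈ UW)
    (hcs : c * s * (c * s) = 1) : ∃ x : G, c * s = x * c * x⁻¹ := by
  obtain ⟨x, hx, ex⟩ := h.LV.beta s hs
  obtain ⟨x', hx', ex'⟩ := h.LW.beta s hs'
  have hxx : x = x' := mul_left_cancel (ex.symm.trans ex')
  subst hxx
  have e1 := beta_mul (t := t) (V := V) (h.LV.cV _ (h.cUV hs)) hx (h.beta_c ex) ex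
  have e2 : c * s * c * s = 1 := by rw [← hcs]; group
  rw [e2] at e1
  have e3 : c * x * c * x = 1 := by
    have : t * (c * x * c * x) = t := by rw [← e1]; group
    exact mul_eq_left.mp this
  obtain ⟨e, he, he', h1⟩ := h.fix0 hx hx' e3
  obtain ⟨a, ha, ha', ea⟩ := h.yx e he he'
  refine cj_step (a := a) h.cc (fun hcs' => ?_) hcs
  have hm : c * a⁻¹ * c * s * a ∈ UV :=
    UV.mul_mem (UV.mul_mem (h.cUV (UV.inv_mem ha)) hs) ha
  have hm' : c * a⁻¹ * c * s * a ∈ UW :=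
    UW.mul_mem (UW.mul_mem (h.cUW (UW.inv_mem ha')) hs') ha'
  have b1 := h.beta_c (beta_inv h.elV (h.LV.cV _ ha) he ea)
  have b2 := beta_mul (t := t) (V := V) (h.LV.cV _ (h.cUV (UV.inv_mem ha))) hx b1 ex
  have b3 := beta_mul (t := t) (V := V)
    ((h.LV.cV _ (h.cUV (UV.inv_mem ha))).mul (h.LV.cV _ hs)) he b2 ea
  have b4 : c * e * c * x * e = 1 := by
    have q1 : c * e * c * x = x * (c * e * c) := h.elV.comm (h.cVm he) hx
    rw [q1, ← h1]; group
  rw [b4, mul_one] at b3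
  have b5 : (c * a⁻¹ * c * s * a) * t = t * (c * a⁻¹ * c * s * a) := by
    have := congrArg (· * (c * a⁻¹ * c * s * a)) b3
    simpa [mul_assoc] using this
  exact h.step1 (h.LV.cT _ hm b5) (h.LW.cT _ hm' b5) hcs'

/-- step 3 -/
theorem step3 (h : FData t c V W UV UW) {v y : G} (hv : v ∈ V) (hy : y ∈ UV) (hy' : y ∈ UW)
    (hcs : c * (y * v) * (c * (y * v)) = 1) : ∃ x : G, c * (y * v) = x * c * x⁻¹ := by
  have hvU := h.LV.VU hv
  -- (c v c) v ∈ UW
  have e1 : c * v * c * v ∈ UW := by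
    have h1 : (c * y * c) * (c * v * c) * y * v = 1 := by
      calc (c * y * c) * (c * v * c) * y * v = c * y * (c * c) * v * (c * y * v) := by group
        _ = c * (y * v) * (c * (y * v)) := by rw [h.cc]; group
        _ = 1 := hcs
    have h2 : (c * v * c) * y = y * (c * v * c) := h.LV.el.comm (h.cUV hvU) hy
    have h3 : (c * y * c) * y * (c * v * c * v) = 1 := by
      rw [← h1]
      calc (c * y * c) * y * (c * v * c * v) = (c * y * c) * (y * (c * v * c)) * v := by group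
        _ = (c * y * c) * ((c * v * c) * y) * v := by rw [h2]
        _ = (c * y * c) * (c * v * c) * y * v := by group
    have h4 : c * v * c * v = ((c * y * c) * y)⁻¹ := eq_inv_of_mul_eq_one_right h3
    rw [h4]
    exact UW.inv_mem (UW.mul_mem (h.cUW hy') hy')
  have e2 : c * v * c * v ∈ W := h.VU (V.mul_mem (h.cVm hv) hv) e1
  obtain ⟨e, he, h1, _⟩ := h.fixV hv e2
  have heU := h.LV.VU he
  refine cj_step (a := e) h.cc (fun hcs' => ?_) hcs
  have ei := h.elV.inv he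
  have hk : c * e⁻¹ * c * (y * v) * e = y * (v * (c * e * c * e)) := by
    rw [ei]
    have q1 : (c * e * c) * (y * v) = (y * v) * (c * e * c) :=
      h.LV.el.comm (h.cUV heU) (UV.mul_mem hy hvU)
    rw [q1]; group
  have hUV : c * e⁻¹ * c * (y * v) * e ∈ UV := by
    rw [hk]
    exact UV.mul_mem hy (UV.mul_mem hvU (UV.mul_mem (h.cUV heU) heU))
  have hUW : c * e⁻¹ * c * (y * v) * e ∈ UW := by
    rw [hk]
    exact UW.mul_mem hy' (h.LW.VU h1)
  exact h.step2 hUV hUW hcs'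

/-- step 4 -/
theorem step4 (h : FData t c V W UV UW) {s : G} (hs : s ∈ UV)
    (hcs : c * s * (c * s) = 1) : ∃ x : G, c * s = x * c * x⁻¹ := by
  obtain ⟨x, hx, ex⟩ := h.LV.beta s hs
  have e1 := beta_mul (t := t) (V := V) (h.LV.cV _ (h.cUV hs)) hx (h.beta_c ex) ex
  have e2 : c * s * c * s = 1 := by rw [← hcs]; group
  rw [e2] at e1
  have e3 : c * x * c * x = 1 := by
    have : t * (c * x * c * x) = t := by rw [← e1]; group
    exact mul_eq_left.mp this
  obtain ⟨e, he, h1, h1'⟩ := h.fixV hx (by rw [e3]; exact W.one_mem)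
  obtain ⟨a, ha, ea⟩ := h.LV.onto e he
  refine cj_step (a := a) h.cc (fun hcs' => ?_) hcs
  have hm : c * a⁻¹ * c * s * a ∈ UV :=
    UV.mul_mem (UV.mul_mem (h.cUV (UV.inv_mem ha)) hs) ha
  have b1 := h.beta_c (beta_inv h.elV (h.LV.cV _ ha) he ea)
  have b2 := beta_mul (t := t) (V := V) (h.LV.cV _ (h.cUV (UV.inv_mem ha))) hx b1 ex
  have b3 := beta_mul (t := t) (V := V)
    ((h.LV.cV _ (h.cUV (UV.inv_mem ha))).mul (h.LV.cV _ hs)) he b2 ea
  have b4 : c * e * c * x * e = x * (c * e * c * e) := by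
    have q1 : c * e * c * x = x * (c * e * c) := h.elV.comm (h.cVm he) hx
    rw [q1]; group
  rw [b4] at b3
  obtain ⟨y, hy, hy', v, hv, e5⟩ := h.low' hm b3 h1' h1
  rw [e5] at hcs' ⊢
  exact h.step3 hv hy hy' hcs'

theorem nE' (h : FData t c V W UV UW) {b u : G} (hb : b ∈ UW) (hu : u ∈ UV) :
    b * u * b⁻¹ ∈ UV := (h.nE b hb u).mpr hu

theorem nE'' (h : FData t c V W UV UW) {b u : G} (hb : b ∈ UW) (hu : u ∈ UV) :
    b⁻¹ * u * b ∈ UV := by
  have := h.nE' (UW.inv_mem hb) hu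
  rw [inv_inv] at this
  exact this

/-- if `(c u b)^2 = 1` with `u ∈ U_V`, `b ∈ U_W` then `(c b c) b ∈ U_V` -/
theorem modUV (h : FData t c V W UV UW) {u b : G} (hu : u ∈ UV) (hb : b ∈ UW)
    (hcs : c * (u * b) * (c * (u * b)) = 1) : c * b * c * b ∈ UV := by
  -- (c u c)(c b c) u b = 1
  have h1 : (c * u * c) * ((c * b * c) * u * (c * b * c)⁻¹) * (c * b * c * b) = 1 := by
    calc (c * u * c) * ((c * b * c) * u * (c * b * c)⁻¹) * (c * b * c * b)
        = c * u * (c * c) * b * c * u * b := by group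
      _ = c * (u * b) * (c * (u * b)) := by rw [h.cc]; group
      _ = 1 := hcs
  have h2 : c * b * c * b = ((c * u * c) * ((c * b * c) * u * (c * b * c)⁻¹))⁻¹ :=
    eq_inv_of_mul_eq_one_right h1
  rw [h2]
  exact UV.inv_mem (UV.mul_mem (h.cUV hu) (h.nE' (h.cUW hb) hu))

/-- conjugating `c u b` by `a ∈ U_W` -/
theorem conjUW (h : FData t c V W UV UW) {u b a : G} (hu : u ∈ UV) (ha : a ∈ UW) :
    ∃ u' ∈ UV, c * a⁻¹ * c * (u * b) * a = u' * ((c * a * c) * b * a) := by
  have ai : a⁻¹ = a := h.LW.el.inv ha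
  refine ⟨(c * a * c) * u * (c * a * c)⁻¹, h.nE' (h.cUW ha) hu, ?_⟩
  rw [ai]; group

/-- step 5 -/
theorem step5 (h : FData t c V W UV UW) {u w : G} (hu : u ∈ UV) (hw : w ∈ W)
    (hcs : c * (u * w) * (c * (u * w)) = 1) : ∃ x : G, c * (u * w) = x * c * x⁻¹ := by
  have hwU := h.LW.VU hw
  have e1 := h.modUV hu hwU hcs
  have e2 : c * w * c * w ∈ V := h.WU _ (W.mul_mem (h.cWm hw) hw) e1
  obtain ⟨e, he, h1, h1'⟩ := h.fixW hw e2
  have heU := h.LW.VU he
  refine cj_step (a := e) h.cc (fun hcs' => ?_) hcs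
  obtain ⟨u', hu', e3⟩ := h.conjUW (b := w) hu heU
  have e4 : (c * e * c) * w * e = w * (c * e * c * e) := by
    have q1 : (c * e * c) * w = w * (c * e * c) := h.elW.comm (h.cWm he) hw
    rw [q1]; group
  rw [e4] at e3
  rw [e3] at hcs' ⊢
  exact h.step4 (UV.mul_mem hu' (h.LV.VU h1)) hcs'

/-- step 6: all involutions of `c U_V U_W` are conjugate to `c` -/
theorem conj_c (h : FData t c V W UV UW) {u b : G} (hu : u ∈ UV) (hb : b ∈ UW)
    (hcs : c * (u * b) * (c * (u * b)) = 1) : ∃ x : G, c * (u * b) = x * c * x⁻¹ := by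
  obtain ⟨w, hw, ew⟩ := h.LW.beta b hb
  have e1 := h.modUV hu hb hcs
  have e1' : c * b * c * b ∈ UW := UW.mul_mem (h.cUW hb) hb
  have e2 := beta_mul (t := t) (V := W) (h.LW.cV _ (h.cUW hb)) hw (h.beta_c ew) ew
  obtain ⟨x, hx, ex⟩ := h.LV.beta _ e1
  have e3 : c * w * c * w ∈ V := by
    have : c * w * c * w = x := mul_left_cancel (e2.symm.trans ex)
    rw [this]; exact hx
  obtain ⟨e, he, h1, h1'⟩ := h.fixW hw e3
  obtain ⟨a, ha, ea⟩ := h.LW.onto e he
  refine cj_step (a := a) h.cc (fun hcs' => ?_) hcs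
  obtain ⟨u', hu', e4⟩ := h.conjUW (b := b) hu ha
  have b1 := h.beta_c ea
  have b2 := beta_mul (t := t) (V := W) (h.LW.cV _ (h.cUW ha)) hw b1 ew
  have b3 := beta_mul (t := t) (V := W)
    ((h.LW.cV _ (h.cUW ha)).mul (h.LW.cV _ hb)) he b2 ea
  have b4 : c * e * c * w * e = w * (c * e * c * e) := by
    have q1 : c * e * c * w = w * (c * e * c) := h.elW.comm (h.cWm he) hw
    rw [q1]; group
  rw [b4] at b3
  obtain ⟨y, hy, hy', w', hw', e5⟩ := h.low (UW.mul_mem (UW.mul_mem (h.cUW ha) hb) ha) b3 h1 h1'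
  rw [e5, ← mul_assoc u'] at e4
  rw [e4] at hcs' ⊢
  exact h.step5 (UV.mul_mem hu' hy) hw' hcs'

end FData

end Cfsg.Agent.OddHalf.MM

end

-- merged: Cfsg.Agent.OddHalf.MM.Data
section

/-!
# ODD half, D8, `M22`, `M23`: assembly of nodes B, C, D, E (helper438)

From the sheet, the setting and the output of node A: the data `FData` of node F.
-/

set_option autoImplicit false

namespace Cfsg.Agent.OddHalf.MM

variable {K : Type*} [Group K] {G : Type*} [Group G] {SK V W : Subgroup K} {z c : K} {t : G}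
  {φ : K →* G}

theorem Nrm.map {E : Subgroup K} {k : K} (h : Nrm k E) (s : Setting t φ) :
    Nrm (φ k) (E.map φ) := by
  intro x
  constructor
  · rintro ⟨y, hy, e⟩
    refine ⟨k⁻¹ * y * k, ?_, ?_⟩
    · apply (h _).mp
      have : k * (k⁻¹ * y * k) * k⁻¹ = y := by group
      rw [this]; exact hy
    · rw [map_mul, map_mul, e, map_inv]; group
  · rintro ⟨y, hy, e⟩
    exact ⟨k * y * k⁻¹, (h y).mpr hy, by rw [map_mul, map_mul, map_inv, e]⟩

theorem El.map {E : Subgroup K} (h : El E) (φ : K →* G) : El (E.map φ) := by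
  rintro x ⟨y, hy, rfl⟩
  rw [← map_mul, h y hy, map_one]

theorem Setting.map_mem {E : Subgroup K} (s : Setting t φ) {k : K} :
    φ k ∈ E.map φ ↔ k ∈ E := by
  constructor
  · rintro ⟨y, hy, e⟩
    rw [← s.inj e]; exact hy
  · exact fun h => ⟨k, h, rfl⟩

theorem Setting.card_map (s : Setting t φ) (E : Subgroup K) :
    Nat.card (E.map φ) = Nat.card E :=
  (Nat.card_congr (E.equivMapOfInjective φ s.inj).toEquiv).symm

theorem Layer.uniq' {V U : Subgroup G} (h : Half t V) (L : Layer t V U) : Norm.Uniq t V U where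
  tt := h.tt
  elV := h.el
  comm := h.comm
  mem := L.mem
  el := L.el
  card := L.card
  nine := fun R hR ht hc => L.grow R hR hc ht
  nine' := fun F he hc hB => L.uniq F hB he hc

theorem exists_fdata [Finite G] (h : Sheet SK V W z c) (s : Setting t φ)
    (exV : ∀ v ∈ V, ∃ b : G, Cen b (V.map φ) ∧ b * t * b⁻¹ = t * φ v)
    (exW : ∀ w ∈ W, ∃ b : G, Cen b (W.map φ) ∧ b * t * b⁻¹ = t * φ w) :
    ∃ UV UW : Subgroup G, FData t (φ c) (V.map φ) (W.map φ) UV UW := by
  obtain ⟨⟨y, yy, yV, yW, yt⟩, hV, hW⟩ := central h s exV exW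
  obtain ⟨d, dV, dW, dz⟩ := h.del
  have hinf : V.map φ ⊓ W.map φ = (V ⊓ W).map φ := (Subgroup.map_inf V W φ s.inj).symm
  have c4 : Nat.card (V.map φ ⊓ W.map φ : Subgroup G) = 4 := by
    rw [hinf, s.card_map, h.cardVW]
  have zV : φ z ∈ V.map φ := ⟨z, h.zV, rfl⟩
  have zW : φ z ∈ W.map φ := ⟨z, h.zW, rfl⟩
  have z1 : φ z ≠ 1 := fun e => h.z1 (s.inj (by rw [e, map_one]))
  have nWV : ∀ w ∈ W.map φ, Nrm w (V.map φ) := by
    rintro _ ⟨w, hw, rfl⟩
    exact (h.nV w (h.WS hw)).map s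
  have nVW : ∀ v ∈ V.map φ, Nrm v (W.map φ) := by
    rintro _ ⟨v, hv, rfl⟩
    exact (h.nW v (h.VS hv)).map s
  have cVW : ∀ v ∈ V.map φ, v ∉ W.map φ → ∀ w ∈ W.map φ, v * w = w * v → w ∈ V.map φ := by
    rintro _ ⟨v, hv, rfl⟩ hn _ ⟨w, hw, rfl⟩ e
    refine ⟨w, h.cVW v hv (fun h1 => hn ⟨v, h1, rfl⟩) w hw (s.inj ?_), rfl⟩
    rw [map_mul, map_mul]; exact e
  have cWV : ∀ w ∈ W.map φ, w ∉ V.map φ → ∀ v ∈ V.map φ, w * v = v * w → v ∈ W.map φ := by
    rintro _ ⟨w, hw, rfl⟩ hn _ ⟨v, hv, rfl⟩ e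
    refine ⟨v, h.cWV w hw (fun h1 => hn ⟨w, h1, rfl⟩) v hv (s.inj ?_), rfl⟩
    rw [map_mul, map_mul]; exact e.symm
  have dz' : φ d * φ z * (φ d)⁻¹ ≠ φ z := by
    intro e
    apply dz
    apply s.inj
    rw [map_mul, map_mul, map_inv]; exact e
  obtain ⟨gV, gW⟩ := good hV hW c4 zV zW z1 nWV nVW cVW yy yV yW yt (dV.map s) (dW.map s)
    (s.comm d) dz'
  obtain ⟨UV, LV⟩ := exists_layer hV gV
  obtain ⟨UW, LW⟩ := exists_layer hW gW
  have QV := Layer.uniq' hV LV
  have QW := Layer.uniq' hW LW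
  have ex0 := Norm.ex0_of QV.toDat c4 zV zW z1 (dV.map s) (dW.map s) (s.comm d) dz' yV yW yy yt
  have nE := Norm.norm QV QW.toDat nVW nWV cVW ex0
  refine ⟨UV, UW, ?_⟩
  refine
    { tt := s.tt, cc := ?_, ct := s.comm c, nV := (h.nV c h.cS).map s, nW := (h.nW c h.cS).map s,
      elV := hV.el, elW := hW.el, cardV := hV.card, cardW := hW.card, cardVW := c4,
      commV := hV.comm, commW := hW.comm, LV := LV, LW := LW, nE := nE, WU := ?_, yx := ?_,
      c0 := ?_, cV := ?_, cW := ?_ }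
  · rw [← map_mul, h.cc, map_one]
  · intro w hw hwU
    exact LV.cT w hwU (hW.comm w hw)
  · intro x hx hx'
    by_cases h1 : x = 1
    · subst h1
      exact ⟨1, UV.one_mem, UW.one_mem, by group⟩
    · obtain ⟨y', c1, c2, e1, e2⟩ := ex0 x hx hx'
      have hne : y' * t ≠ t * y' := by
        intro e
        apply h1
        rw [e] at e2
        have : t * x = t := by rw [← e2]; group
        exact mul_eq_left.mp this
      exact ⟨y', (LV.mem y').mpr ⟨⟨c1, x, hx, e2⟩, e1, fun e => absurd e hne⟩,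
        (LW.mem y').mpr ⟨⟨c2, x, hx', e2⟩, e1, fun e => absurd e hne⟩, e2⟩
  · obtain ⟨x, hx, hx', hne⟩ := h.c0
    refine ⟨φ x, ⟨x, hx, rfl⟩, ⟨x, hx', rfl⟩, fun e => hne (s.inj ?_)⟩
    rw [map_mul, map_mul]; exact e
  · obtain ⟨v, hv, hn⟩ := h.cV
    refine ⟨φ v, ⟨v, hv, rfl⟩, fun e => hn ?_⟩
    rw [← map_inv, ← map_inv, ← map_mul, ← map_mul, ← map_mul, s.map_mem] at e
    exact e
  · obtain ⟨v, hv, hn⟩ := h.cW
    refine ⟨φ v, ⟨v, hv, rfl⟩, fun e => hn ?_⟩
    rw [← map_inv, ← map_inv, ← map_mul, ← map_mul, ← map_mul, s.map_mem] at e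
    exact e

end Cfsg.Agent.OddHalf.MM

end

-- merged: Cfsg.Agent.OddHalf.MM.Kill
section

/-!
# ODD half, D8, `M22` and `M23`: the end of the kill (node F, helper259)

`KillHyp t c V W UV UW`: the situation reached by the nodes A-E (in `G`). With `S₀ = UV·UW`, `S = S₀⟨t, c⟩` and
`M₀ = S₀⟨tc⟩` of index 2 in `S`, every involution of `tS₀` is conjugate to `t` (`fus_t`), every involution of `cS₀` to
`c` (`fus_c`), and `C_{S₀}(t) = VW` (`cent_S0`). The transfer to `S/M₀` then gives a subgroup of index 2 (`kill_of`).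
-/

set_option autoImplicit false

namespace Cfsg.Agent.OddHalf.MM

variable {G : Type*} [Group G]

/-! ### Elementary abelian subgroups -/

theorem El.invF {E : Subgroup G} (h : El E) {x : G} (hx : x ∈ E) : x⁻¹ = x :=
  inv_eq_of_mul_eq_one_left (h x hx)

theorem El.mul_comm {E : Subgroup G} (h : El E) {x y : G} (hx : x ∈ E) (hy : y ∈ E) : x * y = y * x := by
  have h1 := h _ (E.mul_mem hx hy)
  calc x * y = (x * x) * (x * y) := by rw [h x hx, one_mul]
    _ = x * (x * x * y) := by group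
    _ = x * y := by rw [h x hx, one_mul]
    _ = (x * y)⁻¹ := (inv_eq_of_mul_eq_one_left h1).symm
    _ = y⁻¹ * x⁻¹ := mul_inv_rev x y
    _ = y * x := by rw [h.invF hx, h.invF hy]

/-! ### Extension by an involution -/

section Ext

variable (N : Subgroup G) (a : G) (ha : a * a = 1) (hn : ∀ x ∈ N, a * x * a ∈ N)

/-- `N ∪ Na` for an involution `a` normalising `N` -/
def ext : Subgroup G where
  carrier := {x | x ∈ N ∨ x * a ∈ N}
  one_mem' := Or.inl N.one_mem
  mul_mem' := by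
    rintro x y (hx | hx) (hy | hy)
    · exact Or.inl (N.mul_mem hx hy)
    · right
      rw [mul_assoc]
      exact N.mul_mem hx hy
    · right
      have e : x * y * a = (x * a) * (a * y * a) := by
        calc x * y * a = x * 1 * y * a := by group
          _ = x * (a * a) * y * a := by rw [ha]
          _ = _ := by group
      rw [e]
      exact N.mul_mem hx (hn y hy)
    · left
      have e : x * y = (x * a) * (a * (y * a) * a) := by
        calc x * y = x * 1 * y * 1 := by group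
          _ = x * (a * a) * y * (a * a) := by rw [ha]
          _ = _ := by group
      rw [e]
      exact N.mul_mem hx (hn _ hy)
  inv_mem' := by
    rintro x (hx | hx)
    · exact Or.inl (N.inv_mem hx)
    · right
      have hai : a⁻¹ = a := inv_eq_of_mul_eq_one_left ha
      have e : x⁻¹ * a = a * (x * a)⁻¹ * a := by
        rw [mul_inv_rev, hai]
        calc x⁻¹ * a = 1 * x⁻¹ * a := by group
          _ = (a * a) * x⁻¹ * a := by rw [ha]
          _ = _ := by group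
      rw [e]
      exact hn _ (N.inv_mem hx)

theorem mem_ext {x : G} : x ∈ ext N a ha hn ↔ x ∈ N ∨ x * a ∈ N := Iff.rfl

theorem le_ext : N ≤ ext N a ha hn := fun _ hx => Or.inl hx

theorem a_mem_ext : a ∈ ext N a ha hn := Or.inr (by rw [ha]; exact N.one_mem)

open Classical in
/-- the sign character of `N ∪ Na` -/
noncomputable def sg : ext N a ha hn →* ℤˣ where
  toFun x := if (x : G) ∈ N then 1 else -1
  map_one' := by
    rw [if_pos]
    exact N.one_mem
  map_mul' := by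
    rintro ⟨x, hx⟩ ⟨y, hy⟩
    show (if x * y ∈ N then (1 : ℤˣ) else -1) = (if x ∈ N then 1 else -1) * (if y ∈ N then 1 else -1)
    by_cases h1 : x ∈ N
    · by_cases h2 : y ∈ N
      · rw [if_pos h1, if_pos h2, if_pos (N.mul_mem h1 h2), one_mul]
      · rw [if_pos h1, if_neg h2, if_neg (fun h => h2 ((N.mul_mem_cancel_left h1).1 h)), one_mul]
    · by_cases h2 : y ∈ N
      · rw [if_neg h1, if_pos h2, if_neg (fun h => h1 ((N.mul_mem_cancel_right h2).1 h)), mul_one]
      · have h3 : x * a ∈ N := hx.resolve_left h1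
        have h4 : y * a ∈ N := hy.resolve_left h2
        have h5 : x * y ∈ N := by
          have e : x * y = (x * a) * (a * (y * a) * a) := by
            calc x * y = x * 1 * y * 1 := by group
              _ = x * (a * a) * y * (a * a) := by rw [ha]
              _ = _ := by group
          rw [e]
          exact N.mul_mem h3 (hn _ h4)
        rw [if_neg h1, if_neg h2, if_pos h5, neg_mul_neg, one_mul]

theorem sg_eq_one {x : ext N a ha hn} (hx : (x : G) ∈ N) : sg N a ha hn x = 1 := if_pos hx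

theorem sg_ne_one {x : ext N a ha hn} (hx : (x : G) ∉ N) : sg N a ha hn x = -1 := if_neg hx

end Ext

/-- a homomorphism to `±1` that is not trivial gives a subgroup of index 2 -/
theorem exists_index_two (f : G →* ℤˣ) {t : G} (ht : f t = -1) : ∃ H : Subgroup G, H.index = 2 := by
  refine ⟨f.ker, ?_⟩
  rw [Subgroup.index_ker]
  have h1 : f.range = ⊤ := by
    rw [eq_top_iff]
    rintro u -
    rcases Int.units_eq_one_or u with rfl | rfl
    · exact f.range.one_mem
    · exact ⟨t, ht⟩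
  rw [h1, Subgroup.card_top, Nat.card_eq_fintype_card]
  rfl

/-! ### The layer lemma -/

/-- `c` acts on `X/X₀`, of order 4, as a transvection: elements fixed by `c` are commutators. -/
theorem layer_lemma [Finite G] {c : G} {X X₀ : Subgroup G} (hc : c * c = 1) (hX : El X) (h0 : X₀ ≤ X)
    (hcX : ∀ x ∈ X, c * x * c ∈ X) (hc0 : ∀ x ∈ X₀, c * x * c ∈ X₀) (h4 : Nat.card X = 4 * Nat.card X₀)
    {v : G} (hv : v ∈ X) (hcv : c * v * c * v ∉ X₀) {x : G} (hx : x ∈ X) (hcx : c * x * c * x ∈ X₀) :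
    ∃ y ∈ X, c * y * c * y * x ∈ X₀ := by
  classical
  set w : G := c * v * c * v with hw
  have hwX : w ∈ X := X.mul_mem (hcX v hv) hv
  -- `x ∈ X₀` or `w x ∈ X₀`, as the cosets of `1, v, w, v w` are all cosets
  have hcw : c * w * c = w := by
    rw [hw]
    calc c * (c * v * c * v) * c = (c * c) * v * (c * v * c) := by group
      _ = v * (c * v * c) := by rw [hc, one_mul]
      _ = c * v * c * v := hX.mul_comm hv (hcX v hv)
  have hcom : ∀ a b : G, a ∈ X → b ∈ X → c * (a * b) * c * (a * b) = (c * a * c * a) * (c * b * c * b) := by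
    intro a b ha hb
    have e1 : c * (a * b) * c = (c * a * c) * (c * b * c) := by
      calc c * (a * b) * c = c * a * 1 * b * c := by group
        _ = c * a * (c * c) * b * c := by rw [hc]
        _ = _ := by group
    rw [e1]
    have e2 := hX.mul_comm (hcX b hb) ha
    calc (c * a * c) * (c * b * c) * (a * b) = (c * a * c) * ((c * b * c) * a) * b := by group
      _ = (c * a * c) * (a * (c * b * c)) * b := by rw [e2]
      _ = _ := by group
  have key : x ∈ X₀ ∨ w * x ∈ X₀ := by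
    by_contra hno
    rw [not_or] at hno
    obtain ⟨hn1, hn2⟩ := hno
    -- five distinct cosets
    have hw2 : w * w = 1 := hX w hwX
    have hv2 : v * v = 1 := hX v hv
    have hcw1 : c * w * c * w ∈ X₀ := by rw [hcw, hw2]; exact X₀.one_mem
    let Q := X ⧸ X₀.subgroupOf X
    have hQ : Nat.card Q = 4 := by
      have h1 := Subgroup.card_eq_card_quotient_mul_card_subgroup (X₀.subgroupOf X)
      have h2 : Nat.card (X₀.subgroupOf X) = Nat.card X₀ :=
        Nat.card_congr (Subgroup.subgroupOfEquivOfLe h0).toEquiv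
      rw [h2, h4] at h1
      have h3 : 0 < Nat.card X₀ := Nat.card_pos
      exact (Nat.eq_of_mul_eq_mul_right h3 h1).symm
    let f : Fin 5 → Q := ![QuotientGroup.mk (1 : X), QuotientGroup.mk (⟨v, hv⟩ : X),
      QuotientGroup.mk (⟨w, hwX⟩ : X), QuotientGroup.mk (⟨v * w, X.mul_mem hv hwX⟩ : X),
      QuotientGroup.mk (⟨x, hx⟩ : X)]
    have heq : ∀ (a b : X), (QuotientGroup.mk a : Q) = QuotientGroup.mk b ↔ (a : G) * b ∈ X₀ := by
      intro a b
      rw [QuotientGroup.eq, Subgroup.mem_subgroupOf]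
      show (a : G)⁻¹ * b ∈ X₀ ↔ _
      rw [hX.invF a.2]
    have g1 : v ∉ X₀ := fun h => hcv (X₀.mul_mem (hc0 v h) h)
    have g2 : w ∉ X₀ := hcv
    have mulc : ∀ a b : G, a ∈ X → b ∈ X → a * b ∈ X₀ → c * a * c * a * (c * b * c * b) ∈ X₀ := by
      intro a b ha hb h
      rw [← hcom a b ha hb]
      exact X₀.mul_mem (hc0 _ h) h
    have g3 : v * w ∉ X₀ := by
      intro h
      have h1 := mulc v w hv hwX h
      exact g2 ((X₀.mul_mem_cancel_right hcw1).1 h1)
    have g4 : v * x ∉ X₀ := by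
      intro h
      have h1 := mulc v x hv hx h
      exact g2 ((X₀.mul_mem_cancel_right hcx).1 h1)
    have g5 : v * w * x ∉ X₀ := by
      intro h
      have h1 := mulc (v * w) x (X.mul_mem hv hwX) hx h
      have h2 := (X₀.mul_mem_cancel_right hcx).1 h1
      rw [hcom v w hv hwX] at h2
      exact g2 ((X₀.mul_mem_cancel_right hcw1).1 h2)
    have vw : v * w = w * v := hX.mul_comm hv hwX
    have hf : Function.Injective f := by
      have e12 : (1 : G) * v = v := one_mul v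
      have cmm : ∀ a b : G, a ∈ X → b ∈ X → a * b ∉ X₀ → b * a ∉ X₀ := by
        intro a b ha hb h
        rwa [hX.mul_comm hb ha]
      have p01 : (1 : G) * v ∉ X₀ := by rwa [one_mul]
      have p02 : (1 : G) * w ∉ X₀ := by rwa [one_mul]
      have p03 : (1 : G) * (v * w) ∉ X₀ := by rwa [one_mul]
      have p04 : (1 : G) * x ∉ X₀ := by rwa [one_mul]
      have p13 : v * (v * w) ∉ X₀ := by rwa [← mul_assoc, hv2, one_mul]
      have p23 : w * (v * w) ∉ X₀ := by
        rw [vw, ← mul_assoc, hw2, one_mul]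
        exact g1
      intro i j hij
      fin_cases i <;> fin_cases j <;>
        first
        | rfl
        | (exfalso
           have h := (heq _ _).1 hij
           first
           | exact p01 h
           | exact p02 h
           | exact p03 h
           | exact p04 h
           | exact g3 h
           | exact p13 h
           | exact g4 h
           | exact p23 h
           | exact hn2 h
           | exact g5 h
           | exact cmm _ _ X.one_mem hv p01 h
           | exact cmm _ _ X.one_mem hwX p02 h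
           | exact cmm _ _ X.one_mem (X.mul_mem hv hwX) p03 h
           | exact cmm _ _ X.one_mem hx p04 h
           | exact cmm _ _ hv hwX g3 h
           | exact cmm _ _ hv (X.mul_mem hv hwX) p13 h
           | exact cmm _ _ hv hx g4 h
           | exact cmm _ _ hwX (X.mul_mem hv hwX) p23 h
           | exact cmm _ _ hwX hx hn2 h
           | exact cmm _ _ (X.mul_mem hv hwX) hx g5 h)
    have : Finite Q := inferInstance
    have h5 := Nat.card_le_card_of_injective f hf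
    rw [hQ, Nat.card_eq_fintype_card, Fintype.card_fin] at h5
    omega
  rcases key with h | h
  · refine ⟨1, X.one_mem, ?_⟩
    have e : c * 1 * c * 1 * x = c * c * x := by group
    rw [e, hc, one_mul]
    exact h
  · exact ⟨v, hv, h⟩

/-! ### The situation reached by the nodes A-E -/

/-- the situation reached by the nodes A-E -/
structure KillHyp (t c : G) (V W UV UW : Subgroup G) : Prop where
  tt : t * t = 1
  cc : c * c = 1
  ct : c * t = t * c
  elV : El UV
  elW : El UW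
  VU : V ≤ UV
  WU : W ≤ UW
  tV : ∀ v ∈ V, v * t = t * v
  tW : ∀ w ∈ W, w * t = t * w
  cenV : ∀ b ∈ UV, b * t = t * b → b ∈ V
  cenW : ∀ b ∈ UW, b * t = t * b → b ∈ W
  betaV : ∀ b ∈ UV, ∃ v ∈ V, b * t * b⁻¹ = t * v
  betaW : ∀ b ∈ UW, ∃ w ∈ W, b * t * b⁻¹ = t * w
  exV : ∀ v ∈ V, ∃ b ∈ UV, b * t * b⁻¹ = t * v
  exW : ∀ w ∈ W, ∃ b ∈ UW, b * t * b⁻¹ = t * w
  cV : ∀ v ∈ V, c * v * c ∈ V
  cW : ∀ w ∈ W, c * w * c ∈ W
  cUV : ∀ b ∈ UV, c * b * c ∈ UV
  cUW : ∀ b ∈ UW, c * b * c ∈ UW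
  nor : ∀ a ∈ UW, ∀ b ∈ UV, a * b * a⁻¹ ∈ UV
  ex0 : ∀ x ∈ V, x ∈ W → ∃ u ∈ UV, u ∈ UW ∧ u * t * u⁻¹ = t * x
  l0 : ∀ x ∈ V, x ∈ W → c * x * c * x = 1 → ∃ y ∈ V, y ∈ W ∧ c * y * c * y * x = 1
  lV : ∀ x ∈ V, c * x * c * x ∈ W → ∃ y ∈ V, c * y * c * y * x ∈ W
  lW : ∀ x ∈ W, c * x * c * x ∈ V → ∃ y ∈ W, c * y * c * y * x ∈ V
  tVW : ∀ v ∈ V, ∀ w ∈ W, t ≠ v * w
  cVW : ∀ v ∈ V, ∀ w ∈ W, c ≠ v * w

/-- `b t b⁻¹ = t v` for an involution `b`: then `t b t = v b` -/
theorem tbt {t b v : G} (tt : t * t = 1) (h : b * t * b⁻¹ = t * v) : t * b * t = v * b := by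
  have e : b * t = t * v * b := by rw [← h]; group
  calc t * b * t = t * (b * t) := by group
    _ = t * (t * v * b) := by rw [e]
    _ = (t * t) * v * b := by group
    _ = v * b := by rw [tt, one_mul]

/-- the values of `β` multiply -/
theorem beta_mulF {t b b' v v' : G} (h : b * t * b⁻¹ = t * v) (h' : b' * t * b'⁻¹ = t * v')
    (hc : b * v' = v' * b) : (b * b') * t * (b * b')⁻¹ = t * (v * v') := by
  calc (b * b') * t * (b * b')⁻¹ = b * (b' * t * b'⁻¹) * b⁻¹ := by group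
    _ = b * (t * v') * b⁻¹ := by rw [h']
    _ = (b * t * b⁻¹) * (b * v') * b⁻¹ := by group
    _ = (b * t * b⁻¹) * (v' * b) * b⁻¹ := by rw [hc]
    _ = t * v * v' := by rw [h]; group
    _ = _ := by group

namespace KillHyp

variable {t c : G} {V W UV UW : Subgroup G} (h : KillHyp t c V W UV UW)

include h

theorem ti : t⁻¹ = t := inv_eq_of_mul_eq_one_left h.tt

theorem ci : c⁻¹ = c := inv_eq_of_mul_eq_one_left h.cc

/-- the values of `β` on `c b c` -/
theorem beta_c {b v : G} (hb : b * t * b⁻¹ = t * v) : (c * b * c) * t * (c * b * c)⁻¹ = t * (c * v * c) := by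
  have hci := h.ci
  calc (c * b * c) * t * (c * b * c)⁻¹ = c * b * (c * t) * c⁻¹ * b⁻¹ * c⁻¹ := by group
    _ = c * b * (t * c) * c⁻¹ * b⁻¹ * c⁻¹ := by rw [h.ct]
    _ = c * (b * t * b⁻¹) * c⁻¹ := by group
    _ = c * (t * v) * c := by rw [hb, hci]
    _ = (c * t) * v * c := by group
    _ = (t * c) * v * c := by rw [h.ct]
    _ = _ := by group

theorem tUV {b : G} (hb : b ∈ UV) : t * b * t ∈ UV := by
  obtain ⟨v, hv, e⟩ := h.betaV b hb
  rw [tbt h.tt e]
  exact UV.mul_mem (h.VU hv) hb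

theorem tUW {b : G} (hb : b ∈ UW) : t * b * t ∈ UW := by
  obtain ⟨v, hv, e⟩ := h.betaW b hb
  rw [tbt h.tt e]
  exact UW.mul_mem (h.WU hv) hb

/-- `β` is injective modulo `V` -/
theorem mul_mem_V {b b' v : G} (hb : b ∈ UV) (hb' : b' ∈ UV) (e : b * t * b⁻¹ = t * v)
    (e' : b' * t * b'⁻¹ = t * v) : b * b' ∈ V := by
  apply h.cenV _ (UV.mul_mem hb hb')
  have e1 := tbt h.tt e
  have e2 := tbt h.tt e'
  have hv : v ∈ UV := by
    have : v = t * b * t * b⁻¹ := by rw [e1]; group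
    rw [this]
    exact UV.mul_mem (h.tUV hb) (UV.inv_mem hb)
  have e3 : t * (b * b') * t = b * b' := by
    calc t * (b * b') * t = t * b * 1 * b' * t := by group
      _ = t * b * (t * t) * b' * t := by rw [h.tt]
      _ = (t * b * t) * (t * b' * t) := by group
      _ = (v * b) * (v * b') := by rw [e1, e2]
      _ = v * (b * v) * b' := by group
      _ = v * (v * b) * b' := by rw [h.elV.mul_comm hb hv]
      _ = (v * v) * (b * b') := by group
      _ = b * b' := by rw [h.elV v hv, one_mul]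
  calc b * b' * t = (t * t) * (b * b') * t := by rw [h.tt, one_mul]
    _ = t * (t * (b * b') * t) := by group
    _ = t * (b * b') := by rw [e3]

theorem mul_mem_W {b b' v : G} (hb : b ∈ UW) (hb' : b' ∈ UW) (e : b * t * b⁻¹ = t * v)
    (e' : b' * t * b'⁻¹ = t * v) : b * b' ∈ W := by
  apply h.cenW _ (UW.mul_mem hb hb')
  have e1 := tbt h.tt e
  have e2 := tbt h.tt e'
  have hv : v ∈ UW := by
    have : v = t * b * t * b⁻¹ := by rw [e1]; group
    rw [this]
    exact UW.mul_mem (h.tUW hb) (UW.inv_mem hb)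
  have e3 : t * (b * b') * t = b * b' := by
    calc t * (b * b') * t = t * b * 1 * b' * t := by group
      _ = t * b * (t * t) * b' * t := by rw [h.tt]
      _ = (t * b * t) * (t * b' * t) := by group
      _ = (v * b) * (v * b') := by rw [e1, e2]
      _ = v * (b * v) * b' := by group
      _ = v * (v * b) * b' := by rw [h.elW.mul_comm hb hv]
      _ = (v * v) * (b * b') := by group
      _ = b * b' := by rw [h.elW v hv, one_mul]
  calc b * b' * t = (t * t) * (b * b') * t := by rw [h.tt, one_mul]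
    _ = t * (t * (b * b') * t) := by group
    _ = t * (b * b') := by rw [e3]

/-- `U_V ∩ W = V ∩ W`, `U_W ∩ V = V ∩ W` -/
theorem UV_W {w : G} (hw : w ∈ W) (hu : w ∈ UV) : w ∈ V := h.cenV w hu (h.tW w hw)

theorem UW_V {v : G} (hv : v ∈ V) (hu : v ∈ UW) : v ∈ W := h.cenW v hu (h.tV v hv)

/-! ### The group `S₀ = U_V U_W` -/

/-- `S₀ = U_V U_W` -/
def S0 : Subgroup G where
  carrier := {s | ∃ u ∈ UV, ∃ b ∈ UW, s = u * b}
  one_mem' := ⟨1, UV.one_mem, 1, UW.one_mem, by group⟩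
  mul_mem' := by
    rintro _ _ ⟨u, hu, b, hb, rfl⟩ ⟨u', hu', b', hb', rfl⟩
    exact ⟨u * (b * u' * b⁻¹), UV.mul_mem hu (h.nor b hb u' hu'), b * b', UW.mul_mem hb hb', by group⟩
  inv_mem' := by
    rintro _ ⟨u, hu, b, hb, rfl⟩
    refine ⟨b⁻¹ * u⁻¹ * b⁻¹⁻¹, h.nor _ (UW.inv_mem hb) _ (UV.inv_mem hu), b⁻¹, UW.inv_mem hb, by group⟩

theorem mem_S0 {s : G} : s ∈ h.S0 ↔ ∃ u ∈ UV, ∃ b ∈ UW, s = u * b := Iff.rfl

theorem UV_le : UV ≤ h.S0 := fun u hu => ⟨u, hu, 1, UW.one_mem, by group⟩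

theorem UW_le : UW ≤ h.S0 := fun b hb => ⟨1, UV.one_mem, b, hb, by group⟩

theorem t_S0 {s : G} (hs : s ∈ h.S0) : t * s * t ∈ h.S0 := by
  obtain ⟨u, hu, b, hb, rfl⟩ := hs
  refine ⟨t * u * t, h.tUV hu, t * b * t, h.tUW hb, ?_⟩
  calc t * (u * b) * t = t * u * 1 * b * t := by group
    _ = t * u * (t * t) * b * t := by rw [h.tt]
    _ = _ := by group

theorem c_S0 {s : G} (hs : s ∈ h.S0) : c * s * c ∈ h.S0 := by
  obtain ⟨u, hu, b, hb, rfl⟩ := hs
  refine ⟨c * u * c, h.cUV u hu, c * b * c, h.cUW b hb, ?_⟩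
  calc c * (u * b) * c = c * u * 1 * b * c := by group
    _ = c * u * (c * c) * b * c := by rw [h.cc]
    _ = _ := by group

/-- `C_{S₀}(t) = VW` -/
theorem cent_S0 {s : G} (hs : s ∈ h.S0) (hst : s * t = t * s) : ∃ v ∈ V, ∃ w ∈ W, s = v * w := by
  obtain ⟨u, hu, b, hb, rfl⟩ := hs
  obtain ⟨v, hv, e⟩ := h.betaV u hu
  obtain ⟨w, hw, e'⟩ := h.betaW b hb
  have e1 := tbt h.tt e
  have e2 := tbt h.tt e'
  -- `v = w`
  have e3 : t * (u * b) * t = u * b := by
    calc t * (u * b) * t = (t * (u * b)) * t := by group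
      _ = (u * b * t) * t := by rw [hst]
      _ = u * b * (t * t) := by group
      _ = u * b := by rw [h.tt, mul_one]
  have e4 : v * u * (w * b) = u * b := by
    rw [← e3, ← e1, ← e2]
    calc t * u * t * (t * b * t) = t * u * (t * t) * b * t := by group
      _ = t * (u * b) * t := by rw [h.tt]; group
  have e5 : v * w = 1 := by
    have h1 : u * (v * w) * b = u * b := by
      calc u * (v * w) * b = (u * v) * w * b := by group
        _ = (v * u) * w * b := by rw [h.elV.mul_comm hu (h.VU hv)]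
        _ = v * u * (w * b) := by group
        _ = u * b := e4
    have h2 : u * (v * w) = u := mul_right_cancel h1
    exact mul_eq_left.1 h2
  have hvw : v = w := by
    have : w * w = 1 := h.elW w (h.WU hw)
    calc v = v * (w * w) := by rw [this, mul_one]
      _ = (v * w) * w := by group
      _ = w := by rw [e5, one_mul]
  subst hvw
  obtain ⟨u0, h1, h2, h3⟩ := h.ex0 v hv hw
  refine ⟨u * u0, h.mul_mem_V hu h1 e h3, u0 * b, h.mul_mem_W h2 hb h3 e', ?_⟩
  calc u * b = u * 1 * b := by group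
    _ = u * (u0 * u0) * b := by rw [h.elV u0 h1]
    _ = _ := by group

/-! ### Fusion of the involutions of `tS₀` -/

theorem fus_t {s : G} (hs : s ∈ h.S0) (h2 : t * s * (t * s) = 1) :
    ∃ a ∈ h.S0, a * (t * s) * a⁻¹ = t := by
  obtain ⟨u, hu, b, hb, rfl⟩ := hs
  obtain ⟨w, hw, e⟩ := h.betaW b hb
  have ebb : b * b = 1 := h.elW b hb
  have e1 := tbt h.tt e
  -- `w = (tb)²` lies in `U_V`
  have hwU : w ∈ UV := by
    -- `t u b t u b = 1`
    have e2 : (t * u * t) * (w * b) * u * b⁻¹ * (b * b) = 1 := by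
      calc (t * u * t) * (w * b) * u * b⁻¹ * (b * b) = (t * u * t) * (w * b) * u * b := by group
        _ = (t * u * t) * (t * b * t) * u * b := by rw [e1]
        _ = t * u * (t * t) * b * t * u * b := by group
        _ = t * (u * b) * (t * (u * b)) := by rw [h.tt]; group
        _ = 1 := h2
    rw [ebb, mul_one] at e2
    have e3 : w = (t * u * t)⁻¹ * (b * u * b⁻¹)⁻¹ := by
      have : (t * u * t) * w * (b * u * b⁻¹) = 1 := by
        calc (t * u * t) * w * (b * u * b⁻¹) = (t * u * t) * (w * b) * u * b⁻¹ := by group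
          _ = 1 := e2
      calc w = (t * u * t)⁻¹ * ((t * u * t) * w * (b * u * b⁻¹)) * (b * u * b⁻¹)⁻¹ := by group
        _ = _ := by rw [this]; group
    rw [e3]
    exact UV.mul_mem (UV.inv_mem (h.tUV hu)) (UV.inv_mem (h.nor b hb u hu))
  have hwV := h.UV_W hw hwU
  obtain ⟨u0, h3, h4, h5⟩ := h.ex0 w hwV hw
  -- `s = u' w₁`
  have hw1 : u0 * b ∈ W := h.mul_mem_W h4 hb h5 e
  have hu' : u * u0 ∈ UV := UV.mul_mem hu h3
  have es : u * b = (u * u0) * (u0 * b) := by
    calc u * b = u * 1 * b := by group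
      _ = u * (u0 * u0) * b := by rw [h.elV u0 h3]
      _ = _ := by group
  rw [es] at h2 ⊢
  generalize u0 * b = w1 at hw1 h2 ⊢
  generalize u * u0 = u' at hu' h2 ⊢
  obtain ⟨a, ha, ea⟩ := h.exW w1 hw1
  have hw11 : w1 * w1 = 1 := h.elW w1 (h.WU hw1)
  have hww : w1⁻¹ = w1 := h.elW.invF (h.WU hw1)
  have haw : a * w1 = w1 * a := h.elW.mul_comm ha (h.WU hw1)
  -- `a (t s) a⁻¹ = t u''`
  have e6 : a * (t * (u' * w1)) * a⁻¹ = t * (w1 * (a * u' * a⁻¹) * w1⁻¹) := by
    calc a * (t * (u' * w1)) * a⁻¹ = (a * t * a⁻¹) * (a * u' * a⁻¹) * (a * w1) * a⁻¹ := by group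
      _ = (t * w1) * (a * u' * a⁻¹) * (w1 * a) * a⁻¹ := by rw [ea, haw]
      _ = t * (w1 * (a * u' * a⁻¹) * w1) := by group
      _ = _ := by rw [hww]
  have hu'' : w1 * (a * u' * a⁻¹) * w1⁻¹ ∈ UV := h.nor w1 (h.WU hw1) _ (h.nor a ha u' hu')
  set u'' := w1 * (a * u' * a⁻¹) * w1⁻¹ with hu''def
  have e7 : t * u'' * (t * u'') = 1 := by
    rw [← e6]
    calc a * (t * (u' * w1)) * a⁻¹ * (a * (t * (u' * w1)) * a⁻¹)
        = a * (t * (u' * w1) * (t * (u' * w1))) * a⁻¹ := by group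
      _ = 1 := by rw [h2]; group
  have huu : u'' * u'' = 1 := h.elV _ hu''
  have e8 : u'' * t = t * u'' := by
    calc u'' * t = (t * t) * (u'' * t) * (u'' * u'') := by rw [h.tt, huu]; group
      _ = t * (t * u'' * (t * u'')) * u'' := by group
      _ = t * u'' := by rw [e7]; group
  have hv : u'' ∈ V := h.cenV _ hu'' e8
  obtain ⟨d, hd, ed⟩ := h.exV _ hv
  -- conjugation by `d` maps `t` to `t u''`, hence `t u''` to `t`
  have hdd : d * d = 1 := h.elV d hd
  have hdi : d⁻¹ = d := h.elV.invF hd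
  refine ⟨d * a, h.S0.mul_mem (h.UV_le hd) (h.UW_le ha), ?_⟩
  calc d * a * (t * (u' * w1)) * (d * a)⁻¹ = d * (a * (t * (u' * w1)) * a⁻¹) * d⁻¹ := by group
    _ = d * (t * u'') * d⁻¹ := by rw [e6]
    _ = d * (d * t * d⁻¹) * d⁻¹ := by rw [ed]
    _ = (d * d) * t * (d * d)⁻¹ := by group
    _ = t := by rw [hdd]; group

/-! ### Fusion of the involutions of `cS₀` -/

omit h in
theorem fus_step {N M S₀ : G → Prop} (hc : c * c = 1) (hmul : ∀ a b, S₀ a → S₀ b → S₀ (a * b))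
    (hred : ∀ s, N s → c * s * c * s = 1 → ∃ a, S₀ a ∧ M (c * a * c * s * a⁻¹))
    (hM : ∀ s, M s → c * s * c * s = 1 → ∃ a, S₀ a ∧ a * (c * s) * a⁻¹ = c) (s : G) (hs : N s)
    (h2 : c * s * c * s = 1) : ∃ a, S₀ a ∧ a * (c * s) * a⁻¹ = c := by
  obtain ⟨a, ha, hm⟩ := hred s hs h2
  have e : a * (c * s) * a⁻¹ = c * (c * a * c * s * a⁻¹) := by
    calc a * (c * s) * a⁻¹ = 1 * a * (c * s) * a⁻¹ := by group
      _ = (c * c) * a * (c * s) * a⁻¹ := by rw [hc]
      _ = _ := by group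
  obtain ⟨a', ha', e'⟩ := hM _ hm (by
    have e3 : c * (c * a * c * s * a⁻¹) * c * (c * a * c * s * a⁻¹) = 1 := by
      calc c * (c * a * c * s * a⁻¹) * c * (c * a * c * s * a⁻¹)
          = c * (c * a * c * s * a⁻¹) * (c * (c * a * c * s * a⁻¹)) := by group
        _ = a * (c * s) * a⁻¹ * (a * (c * s) * a⁻¹) := by rw [e]
        _ = a * (c * s * c * s) * a⁻¹ := by group
        _ = 1 := by rw [h2]; group
    exact e3)
  refine ⟨a' * a, hmul _ _ ha' ha, ?_⟩
  calc a' * a * (c * s) * (a' * a)⁻¹ = a' * (a * (c * s) * a⁻¹) * a'⁻¹ := by group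
    _ = c := by rw [e, e']

omit h in
theorem comm_of_beta {b x : G} (hb : b * t * b⁻¹ = t * x) (hx : x = 1) : b * t = t * b := by
  rw [hx, mul_one] at hb
  calc b * t = b * t * b⁻¹ * b := by group
    _ = t * b := by rw [hb]

/-- the value of `β` on `(c a c) s a⁻¹`, in `U_V` -/
theorem beta_red_V {a s y v : G} (ha : a ∈ UV) (hs : s ∈ UV) (hy : y ∈ V) (hv : v ∈ V)
    (ea : a * t * a⁻¹ = t * y) (es : s * t * s⁻¹ = t * v) :
    (c * a * c * s * a⁻¹) * t * (c * a * c * s * a⁻¹)⁻¹ = t * (c * y * c * y * v) := by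
  have e1 := h.beta_c ea
  have hcy := h.VU (h.cV y hy)
  have hca := h.cUV a ha
  rw [h.elV.invF ha]
  have e2 : (s * a) * t * (s * a)⁻¹ = t * (v * y) := beta_mulF es ea (h.elV.mul_comm hs (h.VU hy))
  have e3 := beta_mulF e1 e2 (h.elV.mul_comm hca (UV.mul_mem (h.VU hv) (h.VU hy)))
  have e4 : c * a * c * s * a = (c * a * c) * (s * a) := by group
  rw [e4, e3, h.elV.mul_comm (h.VU hv) (h.VU hy)]
  group

theorem beta_red_W {a s y v : G} (ha : a ∈ UW) (hs : s ∈ UW) (hy : y ∈ W) (hv : v ∈ W)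
    (ea : a * t * a⁻¹ = t * y) (es : s * t * s⁻¹ = t * v) :
    (c * a * c * s * a⁻¹) * t * (c * a * c * s * a⁻¹)⁻¹ = t * (c * y * c * y * v) := by
  have e1 := h.beta_c ea
  have hcy := h.WU (h.cW y hy)
  have hca := h.cUW a ha
  rw [h.elW.invF ha]
  have e2 : (s * a) * t * (s * a)⁻¹ = t * (v * y) := beta_mulF es ea (h.elW.mul_comm hs (h.WU hy))
  have e3 := beta_mulF e1 e2 (h.elW.mul_comm hca (UW.mul_mem (h.WU hv) (h.WU hy)))
  have e4 : c * a * c * s * a = (c * a * c) * (s * a) := by group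
  rw [e4, e3, h.elW.mul_comm (h.WU hv) (h.WU hy)]
  group

theorem red_mem_UV {a s : G} (ha : a ∈ UV) (hs : s ∈ UV) : c * a * c * s * a⁻¹ ∈ UV :=
  UV.mul_mem (UV.mul_mem (h.cUV a ha) hs) (UV.inv_mem ha)

theorem red_mem_UW {a s : G} (ha : a ∈ UW) (hs : s ∈ UW) : c * a * c * s * a⁻¹ ∈ UW :=
  UW.mul_mem (UW.mul_mem (h.cUW a ha) hs) (UW.inv_mem ha)

/-- an involution `s` of `U_V` fixed by `c` has `β(s)` fixed by `c` -/
theorem beta_fixed {s v : G} (hss : s * s = 1) (hvv : v * v = 1) (es : s * t * s⁻¹ = t * v)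
    (h2 : c * s * c * s = 1) : c * v * c * v = 1 := by
  have e1 : c * s * c = s := by
    calc c * s * c = (c * s * c * s) * s⁻¹ := by group
      _ = s := by rw [h2, one_mul]; exact inv_eq_of_mul_eq_one_left hss
  have e2 := h.beta_c es
  rw [e1, es] at e2
  have e3 : v = c * v * c := mul_left_cancel e2
  rw [← e3, hvv]

theorem fus0 (s : G) (hs : s ∈ V ∧ s ∈ W) (h2 : c * s * c * s = 1) :
    ∃ a, a ∈ h.S0 ∧ a * (c * s) * a⁻¹ = c := by
  refine fus_step (N := fun s => s ∈ V ∧ s ∈ W) (M := fun s => s = 1) (S₀ := fun a => a ∈ h.S0) h.cc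
    (fun a b => h.S0.mul_mem) ?_ ?_ s hs h2
  · rintro s ⟨h1, h3⟩ h2
    obtain ⟨y, hy, -, e⟩ := h.l0 s h1 h3 h2
    refine ⟨y, h.UV_le (h.VU hy), ?_⟩
    rw [h.elV.invF (h.VU hy)]
    calc c * y * c * s * y = c * y * c * (s * y) := by group
      _ = c * y * c * (y * s) := by rw [h.elV.mul_comm (h.VU h1) (h.VU hy)]
      _ = c * y * c * y * s := by group
      _ = 1 := e
  · rintro s rfl -
    exact ⟨1, h.S0.one_mem, by group⟩

theorem fus1 (s : G) (hs : s ∈ UV ∧ s ∈ UW) (h2 : c * s * c * s = 1) :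
    ∃ a, a ∈ h.S0 ∧ a * (c * s) * a⁻¹ = c := by
  refine fus_step (N := fun s => s ∈ UV ∧ s ∈ UW) (M := fun s => s ∈ V ∧ s ∈ W)
    (S₀ := fun a => a ∈ h.S0) h.cc (fun a b => h.S0.mul_mem) ?_ h.fus0 s hs h2
  rintro s ⟨h1, h3⟩ h2
  obtain ⟨v, hv, es⟩ := h.betaV s h1
  obtain ⟨w, hw, es'⟩ := h.betaW s h3
  have hvw : v = w := mul_left_cancel (es.symm.trans es')
  have e1 := h.beta_fixed (h.elV s h1) (h.elV v (h.VU hv)) es h2
  obtain ⟨y, hy, hyW, e2⟩ := h.l0 v hv (hvw ▸ hw) e1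
  obtain ⟨a, ha, ha', ea⟩ := h.ex0 y hy hyW
  refine ⟨a, h.UV_le ha, ?_, ?_⟩
  · exact h.cenV _ (h.red_mem_UV ha h1) (comm_of_beta (h.beta_red_V ha h1 hy hv ea es) e2)
  · exact h.cenW _ (h.red_mem_UW ha' h3) (comm_of_beta (h.beta_red_V ha h1 hy hv ea es) e2)

theorem fus2 (s : G) (hs : ∃ v ∈ V, ∃ u ∈ UV, u ∈ UW ∧ s = v * u) (h2 : c * s * c * s = 1) :
    ∃ a, a ∈ h.S0 ∧ a * (c * s) * a⁻¹ = c := by
  refine fus_step (N := fun s => ∃ v ∈ V, ∃ u ∈ UV, u ∈ UW ∧ s = v * u) (M := fun s => s ∈ UV ∧ s ∈ UW)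
    (S₀ := fun a => a ∈ h.S0) h.cc (fun a b => h.S0.mul_mem) ?_ h.fus1 s hs h2
  rintro s ⟨v, hv, u, hu, hu', rfl⟩ h2
  have hvU := h.VU hv
  have hcv := h.cV v hv
  have e1 : c * v * c * v ∈ W := by
    have e2 : c * v * c * v = (c * u * c * u)⁻¹ := by
      have e3 : (c * v * c) * (c * u * c) * (v * u) = 1 := by
        calc (c * v * c) * (c * u * c) * (v * u) = c * v * (c * c) * u * c * (v * u) := by group
          _ = c * (v * u) * c * (v * u) := by rw [h.cc]; group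
          _ = 1 := h2
      have e4 : (c * v * c * v) * (c * u * c * u) = 1 := by
        calc (c * v * c * v) * (c * u * c * u) = (c * v * c) * (v * (c * u * c)) * u := by group
          _ = (c * v * c) * ((c * u * c) * v) * u := by rw [h.elV.mul_comm hvU (h.cUV u hu)]
          _ = (c * v * c) * (c * u * c) * (v * u) := by group
          _ = 1 := e3
      exact eq_inv_of_mul_eq_one_left e4
    apply h.UW_V (V.mul_mem hcv hv)
    rw [e2]
    exact UW.inv_mem (UW.mul_mem (h.cUW u hu') hu')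
  obtain ⟨y, hy, e2⟩ := h.lV v hv e1
  refine ⟨y, h.UV_le (h.VU hy), ?_⟩
  have hyU := h.VU hy
  have e3 : c * y * c * (v * u) * y⁻¹ = (c * y * c * y * v) * u := by
    rw [h.elV.invF hyU]
    calc c * y * c * (v * u) * y = c * y * c * ((v * u) * y) := by group
      _ = c * y * c * (y * (v * u)) := by rw [h.elV.mul_comm (UV.mul_mem hvU hu) hyU]
      _ = _ := by group
  rw [e3]
  have hV : c * y * c * y * v ∈ V := V.mul_mem (V.mul_mem (h.cV y hy) hy) hv
  exact ⟨UV.mul_mem (h.VU hV) hu, UW.mul_mem (h.WU e2) hu'⟩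

theorem fus3 (s : G) (hs : s ∈ UV) (h2 : c * s * c * s = 1) :
    ∃ a, a ∈ h.S0 ∧ a * (c * s) * a⁻¹ = c := by
  refine fus_step (N := fun s => s ∈ UV) (M := fun s => ∃ v ∈ V, ∃ u ∈ UV, u ∈ UW ∧ s = v * u)
    (S₀ := fun a => a ∈ h.S0) h.cc (fun a b => h.S0.mul_mem) ?_ h.fus2 s hs h2
  intro s hs h2
  obtain ⟨v, hv, es⟩ := h.betaV s hs
  have e1 := h.beta_fixed (h.elV s hs) (h.elV v (h.VU hv)) es h2
  obtain ⟨y, hy, e2⟩ := h.lV v hv (by rw [e1]; exact W.one_mem)
  obtain ⟨a, ha, ea⟩ := h.exV y hy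
  refine ⟨a, h.UV_le ha, ?_⟩
  have hm := h.red_mem_UV ha hs
  have em := h.beta_red_V ha hs hy hv ea es
  have hV : c * y * c * y * v ∈ V := V.mul_mem (V.mul_mem (h.cV y hy) hy) hv
  obtain ⟨u0, h3, h4, h5⟩ := h.ex0 _ hV e2
  refine ⟨_, h.mul_mem_V hm h3 em h5, u0, h3, h4, ?_⟩
  calc c * a * c * s * a⁻¹ = c * a * c * s * a⁻¹ * 1 := by group
    _ = c * a * c * s * a⁻¹ * (u0 * u0) := by rw [h.elV u0 h3]
    _ = _ := by group

/-- if `(c u b)² = 1` then `c b c b ∈ U_V` -/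
theorem cbcb_mem {u b : G} (hu : u ∈ UV) (hb : b ∈ UW) (h2 : c * (u * b) * c * (u * b) = 1) :
    c * b * c * b ∈ UV := by
  have hcb := h.cUW b hb
  have e3 : (c * u * c) * ((c * b * c) * u * (c * b * c)⁻¹) * (c * b * c * b) = 1 := by
    calc (c * u * c) * ((c * b * c) * u * (c * b * c)⁻¹) * (c * b * c * b)
        = c * u * (c * c) * b * c * u * b := by group
      _ = c * (u * b) * c * (u * b) := by rw [h.cc]; group
      _ = 1 := h2
  rw [eq_inv_of_mul_eq_one_right e3]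
  exact UV.inv_mem (UV.mul_mem (h.cUV u hu) (h.nor _ hcb _ hu))

theorem fus4 (s : G) (hs : ∃ u ∈ UV, ∃ w ∈ W, s = u * w) (h2 : c * s * c * s = 1) :
    ∃ a, a ∈ h.S0 ∧ a * (c * s) * a⁻¹ = c := by
  refine fus_step (N := fun s => ∃ u ∈ UV, ∃ w ∈ W, s = u * w) (M := fun s => s ∈ UV)
    (S₀ := fun a => a ∈ h.S0) h.cc (fun a b => h.S0.mul_mem) ?_ h.fus3 s hs h2
  rintro s ⟨u, hu, w, hw, rfl⟩ h2
  have hwU := h.WU hw
  have e1 := h.cbcb_mem hu hwU h2
  have e2 := h.UV_W (W.mul_mem (h.cW w hw) hw) e1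
  obtain ⟨y, hy, e3⟩ := h.lW w hw e2
  have hyU := h.WU hy
  refine ⟨y, h.UW_le hyU, ?_⟩
  have e4 : c * y * c * (u * w) * y⁻¹ = ((c * y * c) * u * (c * y * c)⁻¹) * (c * y * c * y * w) := by
    rw [h.elW.invF hyU]
    calc c * y * c * (u * w) * y = ((c * y * c) * u * (c * y * c)⁻¹) * (c * y * c) * (w * y) := by group
      _ = ((c * y * c) * u * (c * y * c)⁻¹) * (c * y * c) * (y * w) := by rw [h.elW.mul_comm hwU hyU]
      _ = _ := by group
  rw [e4]
  exact UV.mul_mem (h.nor _ (h.cUW y hyU) _ hu) (h.VU e3)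

theorem fus_c {s : G} (hs : s ∈ h.S0) (h2 : c * s * c * s = 1) :
    ∃ a ∈ h.S0, a * (c * s) * a⁻¹ = c := by
  refine fus_step (N := fun s => s ∈ h.S0) (M := fun s => ∃ u ∈ UV, ∃ w ∈ W, s = u * w)
    (S₀ := fun a => a ∈ h.S0) h.cc (fun a b => h.S0.mul_mem) ?_ h.fus4 s hs h2
  rintro s ⟨u, hu, b, hb, rfl⟩ h2
  obtain ⟨w, hw, eb⟩ := h.betaW b hb
  have hcb := h.cUW b hb
  have e1 := h.cbcb_mem hu hb h2
  -- `β(c b c b) = c w c w`
  have e2 : (c * b * c * b) * t * (c * b * c * b)⁻¹ = t * (c * w * c * w) := by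
    have := beta_mulF (h.beta_c eb) eb (h.elW.mul_comm hcb (h.WU hw))
    have e3 : c * b * c * b = (c * b * c) * b := by group
    rw [e3, this]
  have e3 : c * w * c * w ∈ V := by
    obtain ⟨v, hv, ev⟩ := h.betaV _ e1
    have : c * w * c * w = v := mul_left_cancel (e2.symm.trans ev)
    rw [this]; exact hv
  obtain ⟨y, hy, e4⟩ := h.lW w hw e3
  obtain ⟨a, ha, ea⟩ := h.exW y hy
  refine ⟨a, h.UW_le ha, ?_⟩
  have hm := h.red_mem_UW ha hb
  have em := h.beta_red_W ha hb hy hw ea eb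
  have hW : c * y * c * y * w ∈ W := W.mul_mem (W.mul_mem (h.cW y hy) hy) hw
  obtain ⟨u0, h5, h6, h7⟩ := h.ex0 _ e4 hW
  refine ⟨((c * a * c) * u * (c * a * c)⁻¹) * u0, UV.mul_mem (h.nor _ (h.cUW a ha) _ hu) h5,
    u0 * (c * a * c * b * a⁻¹), h.mul_mem_W h6 hm h7 em, ?_⟩
  calc c * a * c * (u * b) * a⁻¹ = ((c * a * c) * u * (c * a * c)⁻¹) * 1 * (c * a * c * b * a⁻¹) := by group
    _ = ((c * a * c) * u * (c * a * c)⁻¹) * (u0 * u0) * (c * a * c * b * a⁻¹) := by rw [h.elV u0 h5]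
    _ = _ := by group

/-! ### The groups `M₀` and `S` -/

theorem tc_sq : t * c * (t * c) = 1 := by
  calc t * c * (t * c) = t * (c * t) * c := by group
    _ = t * (t * c) * c := by rw [h.ct]
    _ = (t * t) * (c * c) := by group
    _ = 1 := by rw [h.tt, h.cc, one_mul]

theorem tc_nor (x : G) (hx : x ∈ h.S0) : t * c * x * (t * c) ∈ h.S0 := by
  have e : t * c * x * (t * c) = t * (c * x * c) * t := by
    calc t * c * x * (t * c) = t * c * x * (c * t) := by rw [h.ct]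
      _ = _ := by group
  rw [e]
  exact h.t_S0 (h.c_S0 hx)

/-- `M₀ = S₀⟨tc⟩` -/
def M0 : Subgroup G := ext h.S0 (t * c) h.tc_sq h.tc_nor

theorem t_nor (x : G) (hx : x ∈ h.M0) : t * x * t ∈ h.M0 := by
  rcases hx with hx | hx
  · exact Or.inl (h.t_S0 hx)
  · right
    have e : t * x * t * (t * c) = t * (x * (t * c)) * t := by
      calc t * x * t * (t * c) = t * x * (t * t) * c := by group
        _ = t * x * c := by rw [h.tt]; group
        _ = t * x * c * (t * t) := by rw [h.tt, mul_one]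
        _ = t * x * (c * t) * t := by group
        _ = t * x * (t * c) * t := by rw [h.ct]
        _ = _ := by group
    rw [e]
    exact h.t_S0 hx

/-- `S = S₀⟨t, c⟩` -/
def S : Subgroup G := ext h.M0 t h.tt h.t_nor

theorem S0_le : h.S0 ≤ h.S := fun _ hx => Or.inl (Or.inl hx)

theorem t_mem : t ∈ h.S := a_mem_ext _ _ _ _

theorem c_mem : c ∈ h.S := by
  have h1 : t * c ∈ h.S := Or.inl (a_mem_ext _ _ _ _)
  have h2 : t * (t * c) = c := by
    calc t * (t * c) = (t * t) * c := by group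
      _ = c := by rw [h.tt, one_mul]
  have h3 := h.S.mul_mem h.t_mem h1
  rwa [h2] at h3

theorem t_notMem : t ∉ h.M0 := by
  rintro (h1 | h1)
  · obtain ⟨v, hv, w, hw, e⟩ := h.cent_S0 h1 rfl
    exact h.tVW v hv w hw e
  · have e1 : t * (t * c) = c := by
      calc t * (t * c) = (t * t) * c := by group
        _ = c := by rw [h.tt, one_mul]
    rw [e1] at h1
    obtain ⟨v, hv, w, hw, e⟩ := h.cent_S0 h1 h.ct
    exact h.cVW v hv w hw e

/-- the elements of `S - M₀` lie in `tS₀ ∪ cS₀` -/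
theorem mem_of_notMem {x : G} (hx : x ∈ h.S) (hM : x ∉ h.M0) :
    ∃ s ∈ h.S0, x = t * s ∨ x = c * s := by
  rcases hx.resolve_left hM with h1 | h1
  · refine ⟨t * (x * t) * t, h.t_S0 h1, Or.inl ?_⟩
    calc x = (t * t) * x * (t * t) := by rw [h.tt]; group
      _ = _ := by group
  · have e1 : x * t * (t * c) = x * c := by
      calc x * t * (t * c) = x * (t * t) * c := by group
        _ = x * c := by rw [h.tt, mul_one]
    rw [e1] at h1
    refine ⟨c * (x * c) * c, h.c_S0 h1, Or.inr ?_⟩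
    calc x = (c * c) * x * (c * c) := by rw [h.cc]; group
      _ = _ := by group

/-- **The end of the kill.** -/
theorem false_of_odd [Finite G] (hG : ∀ H : Subgroup G, H.index ≠ 2) (hct : ∀ g : G, g * t * g⁻¹ ≠ c)
    (hodd : Odd (h.S.relIndex (Subgroup.centralizer {t}))) : False := by
  have hk := Cfsg.Agent.GTwoFour.TransferTL.transfer_eq h.S (sg h.M0 t h.tt h.t_nor) t h.tt h.t_mem
    (fun g hg h1 _ => ?_) hodd
  · have e := sg_ne_one h.M0 t h.tt h.t_nor (x := ⟨t, h.t_mem⟩) h.t_notMem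
    obtain ⟨H, hH⟩ := exists_index_two _ (hk.trans e)
    exact hG H hH
  · have hM : g⁻¹ * t * g ∉ h.M0 := fun hM => h1 (sg_eq_one h.M0 t h.tt h.t_nor hM)
    have hsq : g⁻¹ * t * g * (g⁻¹ * t * g) = 1 := by
      calc g⁻¹ * t * g * (g⁻¹ * t * g) = g⁻¹ * (t * t) * g := by group
        _ = 1 := by rw [h.tt]; group
    obtain ⟨s, hs, e | e⟩ := h.mem_of_notMem hg hM
    · rw [e] at hsq
      obtain ⟨a, ha, e2⟩ := h.fus_t hs hsq
      refine ⟨a, h.S0_le ha, ?_⟩
      rw [e]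
      calc t * s = a⁻¹ * (a * (t * s) * a⁻¹) * a := by group
        _ = a⁻¹ * t * a := by rw [e2]
    · exfalso
      rw [e] at hsq
      obtain ⟨a, ha, e2⟩ := h.fus_c hs (by rw [← hsq]; group)
      apply hct (a * g⁻¹)
      calc a * g⁻¹ * t * (a * g⁻¹)⁻¹ = a * (g⁻¹ * t * g) * a⁻¹ := by group
        _ = a * (c * s) * a⁻¹ := by rw [e]
        _ = c := e2

end KillHyp

end Cfsg.Agent.OddHalf.MM

end

-- merged: Cfsg.Agent.OddHalf.MM.KillOf
section

/-!
# ODD half, D8, `M22` and `M23`: the kill from the sheet and the conclusions of the nodes A-E (helper259)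
-/

set_option autoImplicit false

namespace Cfsg.Agent.OddHalf.MM

variable {K : Type*} [Group K] {G : Type*} [Group G]

/-! ### `U` -/

theorem Nrm.invF {g : G} {V : Subgroup G} (h : Nrm g V) : Nrm g⁻¹ V := by
  intro x
  rw [← h (g⁻¹ * x * g⁻¹⁻¹)]
  have e : g * (g⁻¹ * x * g⁻¹⁻¹) * g⁻¹ = x := by group
  rw [e]

/-- elements that normalise `V` and centralise `t` normalise `B_V` -/
theorem InB.conjF {t g b : G} {V : Subgroup G} (hg : Nrm g V) (hgt : g * t = t * g) (hb : InB t V b) :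
    InB t V (g * b * g⁻¹) := by
  obtain ⟨hc, v, hv, e⟩ := hb
  refine ⟨?_, g * v * g⁻¹, (hg v).2 hv, ?_⟩
  · intro x hx
    have h1 : g⁻¹ * x * g ∈ V := by
      have := (hg.invF x).2 hx
      rwa [inv_inv] at this
    have h2 := hc _ h1
    calc g * b * g⁻¹ * x = g * (b * (g⁻¹ * x * g)) * g⁻¹ := by group
      _ = g * ((g⁻¹ * x * g) * b) * g⁻¹ := by rw [h2]
      _ = x * (g * b * g⁻¹) := by group
  · have h3 : g⁻¹ * t * g = t := by
      calc g⁻¹ * t * g = g⁻¹ * (t * g) := by group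
        _ = g⁻¹ * (g * t) := by rw [hgt]
        _ = t := by group
    calc g * b * g⁻¹ * t * (g * b * g⁻¹)⁻¹ = g * (b * (g⁻¹ * t * g) * b⁻¹) * g⁻¹ := by group
      _ = g * (t * v) * g⁻¹ := by rw [h3, e]
      _ = (g * t) * v * g⁻¹ := by group
      _ = (t * g) * v * g⁻¹ := by rw [hgt]
      _ = _ := by group

theorem InU.conjF {t g b : G} {V : Subgroup G} (hg : Nrm g V) (hgt : g * t = t * g) (hb : InU t V b) :
    InU t V (g * b * g⁻¹) := by
  obtain ⟨h1, h2, h3⟩ := hb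
  refine ⟨h1.conjF hg hgt, ?_, fun h4 => (hg b).2 (h3 ?_)⟩
  · calc g * b * g⁻¹ * (g * b * g⁻¹) = g * (b * b) * g⁻¹ := by group
      _ = 1 := by rw [h2]; group
  · have h5 : g⁻¹ * t * g = t := by
      calc g⁻¹ * t * g = g⁻¹ * (t * g) := by group
        _ = g⁻¹ * (g * t) := by rw [hgt]
        _ = t := by group
    calc b * t = b * (g⁻¹ * t * g) := by rw [h5]
      _ = g⁻¹ * (g * b * g⁻¹ * t) * g := by group
      _ = g⁻¹ * (t * (g * b * g⁻¹)) * g := by rw [h4]
      _ = (g⁻¹ * t * g) * b := by group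
      _ = t * b := by rw [h5]

theorem Half.V_InU {t v : G} {V : Subgroup G} (h : Half t V) (hv : v ∈ V) : InU t V v := by
  refine ⟨⟨fun x hx => h.el.mul_comm hv hx, 1, V.one_mem, ?_⟩, h.el v hv, fun _ => hv⟩
  rw [h.comm v hv]; group

/-- every `v ∈ V` is `β(b)` for some `b ∈ U` -/
theorem Half.exists_U {t v : G} {V : Subgroup G} (h : Half t V) (hv : v ∈ V) :
    ∃ b, InU t V b ∧ b * t * b⁻¹ = t * v := by
  by_cases hv1 : v = 1
  · refine ⟨1, h.V_InU V.one_mem, ?_⟩
    rw [hv1]; group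
  obtain ⟨b, hb, e⟩ := h.ex v hv
  have hti : t⁻¹ = t := inv_eq_of_mul_eq_one_left h.tt
  have hne : ∀ g : G, g * t * g⁻¹ = t * v → g * t ≠ t * g := by
    intro g hg hgt
    apply hv1
    have h1 : t * 1 = t * v := by
      rw [← hg, hgt]; group
    exact (mul_left_cancel h1).symm
  rcases h.sq v hv b hb e with h1 | h1
  · exact ⟨b, ⟨⟨hb, v, hv, e⟩, h1, fun h2 => absurd h2 (hne b e)⟩, e⟩
  · have e2 : (t * b) * t * (t * b)⁻¹ = t * v := by
      calc (t * b) * t * (t * b)⁻¹ = t * (b * t * b⁻¹) * t⁻¹ := by group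
        _ = t * (t * v) * t := by rw [e, hti]
        _ = (t * t) * (v * t) := by group
        _ = t * v := by rw [h.tt, h.comm v hv, one_mul]
    refine ⟨t * b, ⟨⟨?_, v, hv, e2⟩, ?_, fun h2 => absurd h2 (hne _ e2)⟩, e2⟩
    · intro x hx
      calc t * b * x = t * (b * x) := by group
        _ = t * (x * b) := by rw [hb x hx]
        _ = (t * x) * b := by group
        _ = (x * t) * b := by rw [h.comm x hx]
        _ = x * (t * b) := by group
    · have e3 : b * t = t * v * b := by rw [← e]; group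
      calc t * b * (t * b) = t * (b * t) * b := by group
        _ = t * (t * v * b) * b := by rw [e3]
        _ = (t * t) * v * (b * b) := by group
        _ = v * v := by rw [h.tt, h1, one_mul]
        _ = 1 := h.el v hv

/-! ### The hypotheses of the kill -/

section

variable {SK V W : Subgroup K} {z c : K} {t : G} {φ : K →* G}

theorem map_nrm {k : K} {V : Subgroup K} (h : Nrm k V) :
    Nrm (φ k) (V.map φ) := by
  intro x
  constructor
  · rintro ⟨v, hv, e⟩
    have h1 : x = φ (k⁻¹ * v * k) := by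
      rw [map_mul, map_mul, map_inv, e]; group
    rw [h1]
    refine ⟨_, ?_, rfl⟩
    have := (h.invF v).2 hv
    rw [inv_inv] at this
    exact this
  · rintro ⟨v, hv, rfl⟩
    refine ⟨k * v * k⁻¹, (h v).2 hv, ?_⟩
    rw [map_mul, map_mul, map_inv]

/-- elements of `V ∩ W` are values of `β` on `U_V ∩ U_W` -/
theorem exists_ex0 (h : Sheet SK V W z c) (s : Setting t φ) {UV UW : Subgroup G}
    (mV : ∀ b, b ∈ UV ↔ InU t (V.map φ) b) (mW : ∀ b, b ∈ UW ↔ InU t (W.map φ) b)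
    {y : G} (yy : y * y = 1) (yV : Cen y (V.map φ)) (yW : Cen y (W.map φ)) (yt : y * t * y⁻¹ = t * φ z)
    (x : K) (hxV : x ∈ V) (hxW : x ∈ W) :
    ∃ u ∈ UV, u ∈ UW ∧ u * t * u⁻¹ = t * φ x := by
  classical
  have hne : ∀ {g : G} {k : K}, g * t * g⁻¹ = t * φ k → k ≠ 1 → g * t ≠ t * g := by
    intro g k hg hk hgt
    apply hk
    apply s.inj
    rw [map_one]
    have h1 : t * 1 = t * φ k := by
      rw [← hg, hgt]; group
    exact (mul_left_cancel h1).symm
  have hy : y ∈ UV ∧ y ∈ UW := by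
    rw [mV, mW]
    exact ⟨⟨⟨yV, φ z, ⟨z, h.zV, rfl⟩, yt⟩, yy, fun h2 => absurd h2 (hne yt h.z1)⟩,
      ⟨⟨yW, φ z, ⟨z, h.zW, rfl⟩, yt⟩, yy, fun h2 => absurd h2 (hne yt h.z1)⟩⟩
  obtain ⟨d, dV, dW, dz⟩ := h.del
  have hcd := s.comm d
  -- the conjugate of `y`
  set y' := φ d * y * (φ d)⁻¹ with hy'
  have hy'm : y' ∈ UV ∧ y' ∈ UW := by
    constructor
    · rw [mV]; exact ((mV y).1 hy.1).conjF (map_nrm dV) hcd
    · rw [mW]; exact ((mW y).1 hy.2).conjF (map_nrm dW) hcd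
  have hy't : y' * t * y'⁻¹ = t * φ (d * z * d⁻¹) := by
    have h3 : (φ d)⁻¹ * t * φ d = t := by
      calc (φ d)⁻¹ * t * φ d = (φ d)⁻¹ * (t * φ d) := by group
        _ = (φ d)⁻¹ * (φ d * t) := by rw [hcd]
        _ = t := by group
    rw [hy']
    calc φ d * y * (φ d)⁻¹ * t * (φ d * y * (φ d)⁻¹)⁻¹ = φ d * (y * ((φ d)⁻¹ * t * φ d) * y⁻¹) * (φ d)⁻¹ := by
          group
      _ = φ d * (t * φ z) * (φ d)⁻¹ := by rw [h3, yt]
      _ = (φ d * t) * φ z * (φ d)⁻¹ := by group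
      _ = t * (φ d * φ z * (φ d)⁻¹) := by rw [hcd]; group
      _ = _ := by rw [map_mul, map_mul, map_inv]
  -- the elements of `V ∩ W`
  set z' := d * z * d⁻¹ with hz'
  have hz'V : z' ∈ V := (dV z).2 h.zV
  have hz'W : z' ∈ W := (dW z).2 h.zW
  have hzz : z * z = 1 := h.elV z h.zV
  have hz'1 : z' ≠ 1 := by
    intro e
    apply h.z1
    rw [hz'] at e
    calc z = d⁻¹ * (d * z * d⁻¹) * d := by group
      _ = 1 := by rw [e]; group
  have hzz' : z * z' ≠ 1 := by
    intro e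
    apply dz
    calc z' = (z * z) * z' := by rw [hzz, one_mul]
      _ = z * (z * z') := by group
      _ = z := by rw [e, mul_one]
  have hall : x = 1 ∨ x = z ∨ x = z' ∨ x = z * z' := by
    by_contra hno
    simp only [not_or] at hno
    obtain ⟨n1, n2, n3, n4⟩ := hno
    have hm : ∀ a : K, a ∈ V → a ∈ W → a ∈ V ⊓ W := fun a h1 h2 => ⟨h1, h2⟩
    let f : Fin 5 → (V ⊓ W : Subgroup K) := ![⟨1, hm _ V.one_mem W.one_mem⟩, ⟨z, hm _ h.zV h.zW⟩,
      ⟨z', hm _ hz'V hz'W⟩, ⟨z * z', hm _ (V.mul_mem h.zV hz'V) (W.mul_mem h.zW hz'W)⟩, ⟨x, hm _ hxV hxW⟩]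
    have hf : Function.Injective f := by
      have q1 := h.z1
      have q2 : z ≠ z' := Ne.symm dz
      have q3 : z ≠ z * z' := fun e => hz'1 (mul_eq_left.1 e.symm)
      have q4 : z' ≠ z * z' := fun e => h.z1 (mul_eq_right.1 e.symm)
      intro i j hij
      have hij' : ((f i : (V ⊓ W : Subgroup K)) : K) = f j := congrArg Subtype.val hij
      fin_cases i <;> fin_cases j <;>
        first
        | rfl
        | (exfalso
           first
           | exact q1 hij'
           | exact q1 hij'.symm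
           | exact hz'1 hij'
           | exact hz'1 hij'.symm
           | exact hzz' hij'
           | exact hzz' hij'.symm
           | exact n1 hij'
           | exact n1 hij'.symm
           | exact q2 hij'
           | exact q2 hij'.symm
           | exact q3 hij'
           | exact q3 hij'.symm
           | exact n2 hij'
           | exact n2 hij'.symm
           | exact q4 hij'
           | exact q4 hij'.symm
           | exact n3 hij'
           | exact n3 hij'.symm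
           | exact n4 hij'
           | exact n4 hij'.symm)
    have hfin : Finite (V ⊓ W : Subgroup K) := Nat.finite_of_card_ne_zero (by rw [h.cardVW]; norm_num)
    have h5 := Nat.card_le_card_of_injective f hf
    rw [h.cardVW, Nat.card_eq_fintype_card, Fintype.card_fin] at h5
    omega
  rcases hall with rfl | rfl | rfl | rfl
  · exact ⟨1, UV.one_mem, UW.one_mem, by rw [map_one]; group⟩
  · exact ⟨y, hy.1, hy.2, yt⟩
  · exact ⟨y', hy'm.1, hy'm.2, hy't⟩
  · refine ⟨y * y', UV.mul_mem hy.1 hy'm.1, UW.mul_mem hy.2 hy'm.2, ?_⟩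
    rw [map_mul]
    exact beta_mulF yt hy't (yV _ ⟨z', hz'V, rfl⟩)

/-- the hypotheses of the kill -/
theorem killHyp [Finite G] (h : Sheet SK V W z c) (s : Setting t φ) (HV : Half t (V.map φ))
    (HW : Half t (W.map φ)) {UV UW : Subgroup G} (mV : ∀ b, b ∈ UV ↔ InU t (V.map φ) b)
    (mW : ∀ b, b ∈ UW ↔ InU t (W.map φ) b) (eV : El UV) (eW : El UW)
    {y : G} (yy : y * y = 1) (yV : Cen y (V.map φ)) (yW : Cen y (W.map φ)) (yt : y * t * y⁻¹ = t * φ z)
    (nor : ∀ a ∈ UW, ∀ b ∈ UV, a * b * a⁻¹ ∈ UV) :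
    KillHyp t (φ c) (V.map φ) (W.map φ) UV UW := by
  have hfinK : Finite K := Finite.of_injective φ s.inj
  have hci : c⁻¹ = c := inv_eq_of_mul_eq_one_left h.cc
  have hcc : φ c * φ c = 1 := by rw [← map_mul, h.cc, map_one]
  have hfci : (φ c)⁻¹ = φ c := inv_eq_of_mul_eq_one_left hcc
  have mapW : ∀ {x : K}, φ x ∈ W.map φ ↔ x ∈ W := fun {x} => Subgroup.mem_map_iff_mem s.inj
  have mapV : ∀ {x : K}, φ x ∈ V.map φ ↔ x ∈ V := fun {x} => Subgroup.mem_map_iff_mem s.inj
  have cV : ∀ x ∈ V, c * x * c ∈ V := by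
    intro x hx
    have := (h.nV c h.cS x).2 hx
    rwa [hci] at this
  have cW : ∀ x ∈ W, c * x * c ∈ W := by
    intro x hx
    have := (h.nW c h.cS x).2 hx
    rwa [hci] at this
  -- the layer lemma for `V ∩ W`, `V`, `W`
  have L0 : ∀ x ∈ V, x ∈ W → c * x * c * x = 1 → ∃ y ∈ V, y ∈ W ∧ c * y * c * y * x = 1 := by
    intro x hxV hxW hx
    obtain ⟨v, hvV, hvW, hv⟩ := h.c0
    obtain ⟨y, hy, e⟩ := layer_lemma (c := c) (X := V ⊓ W) (X₀ := ⊥) h.cc (fun x hx => h.elV x hx.1) bot_le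
      (fun x hx => ⟨cV x hx.1, cW x hx.2⟩)
      (fun x hx => by
        rw [Subgroup.mem_bot] at hx ⊢
        rw [hx, mul_one, h.cc])
      (by rw [h.cardVW, Subgroup.card_bot]) (v := v) ⟨hvV, hvW⟩
      (fun e => hv (by
        rw [Subgroup.mem_bot] at e
        have h1 : v⁻¹ = v := inv_eq_of_mul_eq_one_left (h.elV v hvV)
        calc c * v = (c * v * c * v) * (v⁻¹ * c⁻¹) := by group
          _ = v * c := by rw [e, h1, hci, one_mul]))
      (x := x) ⟨hxV, hxW⟩ (by rw [Subgroup.mem_bot]; exact hx)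
    rw [Subgroup.mem_bot] at e
    exact ⟨y, hy.1, hy.2, e⟩
  have LV : ∀ x ∈ V, c * x * c * x ∈ W → ∃ y ∈ V, c * y * c * y * x ∈ W := by
    intro x hxV hx
    obtain ⟨v, hv, hv'⟩ := h.cV
    obtain ⟨y, hy, e⟩ := layer_lemma (c := c) (X := V) (X₀ := V ⊓ W) h.cc h.elV inf_le_left cV
      (fun x hx => ⟨cV x hx.1, cW x hx.2⟩) (by rw [h.cardV, h.cardVW]) (v := v) hv
      (fun e => hv' (by
        rw [hci, inv_eq_of_mul_eq_one_left (h.elV v hv)]
        exact e.2))
      (x := x) hxV ⟨V.mul_mem (cV x hxV) hxV, hx⟩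
    exact ⟨y, hy, e.2⟩
  have LW : ∀ x ∈ W, c * x * c * x ∈ V → ∃ y ∈ W, c * y * c * y * x ∈ V := by
    intro x hxW hx
    obtain ⟨v, hv, hv'⟩ := h.cW
    obtain ⟨y, hy, e⟩ := layer_lemma (c := c) (X := W) (X₀ := V ⊓ W) h.cc h.elW inf_le_right cW
      (fun x hx => ⟨cV x hx.1, cW x hx.2⟩) (by rw [h.cardW, h.cardVW]) (v := v) hv
      (fun e => hv' (by
        rw [hci, inv_eq_of_mul_eq_one_left (h.elW v hv)]
        exact e.1))
      (x := x) hxW ⟨hx, W.mul_mem (cW x hxW) hxW⟩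
    exact ⟨y, hy, e.1⟩
  have hmap : ∀ {y x : K}, φ c * φ y * φ c * φ y * φ x = φ (c * y * c * y * x) := by
    intro y x
    simp only [map_mul]
  have hmap' : ∀ {x : K}, φ c * φ x * φ c * φ x = φ (c * x * c * x) := by
    intro x
    simp only [map_mul]
  exact {
    tt := s.tt
    cc := hcc
    ct := s.comm c
    elV := eV
    elW := eW
    VU := fun v hv => (mV v).2 (HV.V_InU hv)
    WU := fun v hv => (mW v).2 (HW.V_InU hv)
    tV := HV.comm
    tW := HW.comm
    cenV := fun b hb hbt => ((mV b).1 hb).2.2 hbt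
    cenW := fun b hb hbt => ((mW b).1 hb).2.2 hbt
    betaV := fun b hb => ((mV b).1 hb).1.2
    betaW := fun b hb => ((mW b).1 hb).1.2
    exV := fun v hv => by
      obtain ⟨b, hb, e⟩ := HV.exists_U hv
      exact ⟨b, (mV b).2 hb, e⟩
    exW := fun v hv => by
      obtain ⟨b, hb, e⟩ := HW.exists_U hv
      exact ⟨b, (mW b).2 hb, e⟩
    cV := by
      rintro _ ⟨v, hv, rfl⟩
      rw [← map_mul, ← map_mul]
      exact ⟨_, cV v hv, rfl⟩
    cW := by
      rintro _ ⟨v, hv, rfl⟩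
      rw [← map_mul, ← map_mul]
      exact ⟨_, cW v hv, rfl⟩
    cUV := fun b hb => by
      rw [mV]
      have := ((mV b).1 hb).conjF (map_nrm (φ := φ) (h.nV c h.cS)) (s.comm c)
      rwa [hfci] at this
    cUW := fun b hb => by
      rw [mW]
      have := ((mW b).1 hb).conjF (map_nrm (φ := φ) (h.nW c h.cS)) (s.comm c)
      rwa [hfci] at this
    nor := nor
    ex0 := by
      rintro _ ⟨x, hx, rfl⟩ hxW
      exact exists_ex0 h s mV mW yy yV yW yt x hx (mapW.1 hxW)
    l0 := by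
      rintro _ ⟨x, hx, rfl⟩ hxW e
      rw [hmap', ← map_one φ] at e
      obtain ⟨y, hy, hyW, e'⟩ := L0 x hx (mapW.1 hxW) (s.inj e)
      refine ⟨φ y, ⟨y, hy, rfl⟩, ⟨y, hyW, rfl⟩, ?_⟩
      rw [hmap, e', map_one]
    lV := by
      rintro _ ⟨x, hx, rfl⟩ e
      rw [hmap', mapW] at e
      obtain ⟨y, hy, e'⟩ := LV x hx e
      refine ⟨φ y, ⟨y, hy, rfl⟩, ?_⟩
      rw [hmap]
      exact ⟨_, e', rfl⟩
    lW := by
      rintro _ ⟨x, hx, rfl⟩ e
      rw [hmap', mapV] at e
      obtain ⟨y, hy, e'⟩ := LW x hx e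
      refine ⟨φ y, ⟨y, hy, rfl⟩, ?_⟩
      rw [hmap]
      exact ⟨_, e', rfl⟩
    tVW := by
      rintro _ ⟨v, -, rfl⟩ _ ⟨w, -, rfl⟩ e
      rw [← map_mul] at e
      exact s.tK _ e.symm
    cVW := by
      rintro _ ⟨v, hv, rfl⟩ _ ⟨w, hw, rfl⟩ e
      rw [← map_mul] at e
      exact h.cN v hv w hw (s.inj e) }

/-- `C_G(t)` has a Sylow 2-subgroup inside every subgroup containing `t` and `φ(S_K)` -/
theorem odd_relIndex [Finite G] (hmax : ∀ P : Subgroup K, IsPGroup 2 P → SK ≤ P → P = SK)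
    (htwo : IsPGroup 2 SK) (s : Setting t φ) {S : Subgroup G} (htS : t ∈ S) (hS : SK.map φ ≤ S) :
    Odd (S.relIndex (Subgroup.centralizer {t})) := by
  classical
  set C := Subgroup.centralizer ({t} : Set G) with hC
  have hp : Fact (Nat.Prime 2) := ⟨Nat.prime_two⟩
  have mC : ∀ {g : G}, g ∈ C ↔ g * t = t * g := fun {g} => Subgroup.mem_centralizer_singleton_iff
  -- the 2-group `T = ⟨t⟩ φ(S_K)`
  have hnor : ∀ x ∈ SK.map φ, t * x * t ∈ SK.map φ := by
    rintro _ ⟨k, hk, rfl⟩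
    have : t * φ k * t = φ k := by
      calc t * φ k * t = t * (φ k * t) := by group
        _ = t * (t * φ k) := by rw [s.comm]
        _ = (t * t) * φ k := by group
        _ = φ k := by rw [s.tt, one_mul]
    rw [this]
    exact ⟨k, hk, rfl⟩
  set T := ext (SK.map φ) t s.tt hnor with hT
  have hTC : T ≤ C := by
    intro x hx
    rw [mC]
    rcases hx with ⟨k, -, e⟩ | ⟨k, -, e⟩
    · rw [← e, s.comm]
    · have e1 : x = φ k * t := by rw [e]; rw [mul_assoc, s.tt, mul_one]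
      rw [e1]
      calc φ k * t * t = φ k * t * t := rfl
        _ = (t * φ k) * t := by rw [s.comm]
        _ = t * (φ k * t) := by group
  have hT2 : IsPGroup 2 T := by
    have h1 : ∀ x ∈ SK.map φ, ∃ n, x ^ 2 ^ n = 1 := by
      rintro _ ⟨k, hk, rfl⟩
      obtain ⟨n, hn⟩ := htwo ⟨k, hk⟩
      refine ⟨n, ?_⟩
      have h2 : k ^ 2 ^ n = 1 := congrArg Subtype.val hn
      rw [← map_pow, h2, map_one]
    rintro ⟨x, hx⟩
    have hxC := mC.1 (hTC hx)
    rcases hx with h2 | h2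
    · obtain ⟨n, hn⟩ := h1 x h2
      exact ⟨n, Subtype.ext hn⟩
    · obtain ⟨n, hn⟩ := h1 _ h2
      refine ⟨n + 1, Subtype.ext ?_⟩
      show x ^ 2 ^ (n + 1) = 1
      have h3 : (x * t) ^ 2 = x ^ 2 := by
        calc (x * t) ^ 2 = x * (t * x) * t := by rw [pow_two]; group
          _ = x * (x * t) * t := by rw [hxC]
          _ = x ^ 2 * (t * t) := by rw [pow_two]; group
          _ = x ^ 2 := by rw [s.tt, mul_one]
      rw [pow_succ' 2 n, pow_mul, ← h3, ← pow_mul, mul_comm 2, pow_mul, hn, one_pow]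
  have hT2' : IsPGroup 2 (T.subgroupOf C) := by
    rintro ⟨⟨x, hx⟩, hxT⟩
    obtain ⟨n, hn⟩ := hT2 ⟨x, hxT⟩
    have h1 : x ^ 2 ^ n = 1 := congrArg Subtype.val hn
    exact ⟨n, Subtype.ext (Subtype.ext h1)⟩
  obtain ⟨Q, hQ⟩ := hT2'.exists_le_sylow
  -- `Q ≤ S`
  have hQS : (Q : Subgroup C) ≤ S.subgroupOf C := by
    set Q' := (Q : Subgroup C).map C.subtype with hQ'
    have hTQ : T ≤ Q' := by
      intro x hx
      exact ⟨⟨x, hTC hx⟩, hQ hx, rfl⟩
    have hQ2 : ∀ x ∈ Q', ∃ n, x ^ 2 ^ n = 1 := by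
      rintro _ ⟨q, hq, rfl⟩
      obtain ⟨n, hn⟩ := Q.isPGroup' ⟨q, hq⟩
      refine ⟨n, ?_⟩
      have h2 : q ^ 2 ^ n = 1 := congrArg Subtype.val hn
      rw [← map_pow, h2, map_one]
    have hR2 : IsPGroup 2 (Q'.comap φ) := by
      rintro ⟨k, hk⟩
      obtain ⟨n, hn⟩ := hQ2 (φ k) hk
      refine ⟨n, Subtype.ext ?_⟩
      show k ^ 2 ^ n = 1
      apply s.inj
      rw [map_pow, hn, map_one]
    have hR : Q'.comap φ = SK := by
      apply hmax _ hR2
      intro k hk
      exact hTQ (Or.inl ⟨k, hk, rfl⟩)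
    have htQ : t ∈ Q' := hTQ (a_mem_ext _ _ _ _)
    rintro ⟨x, hx⟩ hxQ
    show x ∈ S
    have hxQ' : x ∈ Q' := ⟨⟨x, hx⟩, hxQ, rfl⟩
    obtain ⟨k, rfl | e⟩ := s.cent x (mC.1 hx)
    · apply hS
      refine ⟨k, ?_, rfl⟩
      rw [← hR]
      exact hxQ'
    · have hk : φ k ∈ Q' := by
        have : φ k = t * x := by rw [e, ← mul_assoc, s.tt, one_mul]
        rw [this]
        exact Q'.mul_mem htQ hxQ'
      rw [e]
      apply S.mul_mem htS
      apply hS
      refine ⟨k, ?_, rfl⟩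
      rw [← hR]
      exact hk
  have h1 : ¬ 2 ∣ (Q : Subgroup C).index := Q.not_dvd_index
  have h2 := Subgroup.index_dvd_of_le hQS
  rw [← Nat.not_even_iff_odd]
  intro he
  exact h1 ((even_iff_two_dvd.1 he).trans h2)

/-- **The kill**, from the conclusions of the nodes A-E. -/
theorem kill_of [Finite G] (hG : ∀ H : Subgroup G, H.index ≠ 2) (h : Sheet SK V W z c) (s : Setting t φ)
    (hA : ∀ g : G, g * t * g⁻¹ ≠ φ z) (HV : Half t (V.map φ)) (HW : Half t (W.map φ))
    {UV UW : Subgroup G} (mV : ∀ b, b ∈ UV ↔ InU t (V.map φ) b)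
    (mW : ∀ b, b ∈ UW ↔ InU t (W.map φ) b) (eV : El UV) (eW : El UW)
    {y : G} (yy : y * y = 1) (yV : Cen y (V.map φ)) (yW : Cen y (W.map φ)) (yt : y * t * y⁻¹ = t * φ z)
    (nor : ∀ a ∈ UW, ∀ b ∈ UV, a * b * a⁻¹ ∈ UV) : False := by
  have k := killHyp h s HV HW mV mW eV eW yy yV yW yt nor
  apply k.false_of_odd hG
  · intro g hg
    have hc1 : c ≠ 1 := by
      intro e
      exact h.cN 1 V.one_mem 1 W.one_mem (by rw [e, one_mul])
    obtain ⟨a, ha⟩ := h.inv c h.cc hc1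
    apply hA ((φ a)⁻¹ * g)
    calc (φ a)⁻¹ * g * t * ((φ a)⁻¹ * g)⁻¹ = (φ a)⁻¹ * (g * t * g⁻¹) * φ a := by group
      _ = (φ a)⁻¹ * φ (a * z * a⁻¹) * φ a := by rw [hg, ← ha]
      _ = φ z := by rw [map_mul, map_mul, map_inv]; group
  · apply odd_relIndex h.max h.two s k.t_mem
    rintro _ ⟨x, hx, rfl⟩
    have hV : ∀ v ∈ V, φ v ∈ k.S := fun v hv => k.S0_le (k.UV_le (k.VU ⟨v, hv, rfl⟩))
    have hW : ∀ w ∈ W, φ w ∈ k.S := fun w hw => k.S0_le (k.UW_le (k.WU ⟨w, hw, rfl⟩))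
    obtain ⟨v, hv, w, hw, rfl | rfl⟩ := h.gen x hx
    · rw [map_mul]
      exact k.S.mul_mem (hV v hv) (hW w hw)
    · rw [map_mul, map_mul]
      exact k.S.mul_mem (k.S.mul_mem (hV v hv) (hW w hw)) k.c_mem

end

end Cfsg.Agent.OddHalf.MM

end

-- merged: Cfsg.Agent.OddHalf.MM.Main
section

/-!
# ODD half, D8: `K = M22`, `M23`, the clean case `C_G(t) = ⟨t⟩ × K` (assembly, helper259)
-/

set_option autoImplicit false

namespace Cfsg.Agent.OddHalf.MM

variable {K : Type*} [Group K] {G : Type*} [Group G] {SK V W : Subgroup K} {z c : K} {t : G}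
  {φ : K →* G}

/-- **The uniform kill.** -/
theorem kill [Finite G] (hG : ∀ H : Subgroup G, H.index ≠ 2) (h : Sheet SK V W z c) (s : Setting t φ) :
    False := by
  obtain ⟨hA, exV, exW⟩ := Frame.A hG h s
  obtain ⟨⟨y, yy, yV, yW, yt⟩, hV, hW⟩ := central h s exV exW
  obtain ⟨UV, UW, D⟩ := exists_fdata h s exV exW
  exact kill_of hG h s hA hV hW D.LV.mem D.LW.mem D.LV.el D.LW.el yy yV yW yt
    (fun a ha b hb => (D.nE a ha b).2 hb)

end Cfsg.Agent.OddHalf.MM

end
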